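import Cfsg.Agent.BPres.AltBase

/-!
A presentation of the alternating group of degree `p + 2` by two generators and four relations.
-/

set_option autoImplicit false
set_option linter.style.haveILetI false
set_option linter.unusedSectionVars false

namespace CfsgLib.AltPres

open Equiv Equiv.Perm CfsgLib.BPres

universe u

variable (p : ℕ) [Fact p.Prime]

theorem sign_mulLeft {g : (ZMod p)ˣ} (hg : ∀ x, x ∈ Subgroup.zpowers g) (hp : p ≠ 2) :
    Perm.sign (Equiv.mulLeft₀ (g : ZMod p) g.ne_zero : Perm (ZMod p)) = -1 := by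
  classical
  have hpp : p.Prime := Fact.out
  set μ : Perm (ZMod p) := Equiv.mulLeft₀ (g : ZMod p) g.ne_zero
  have hμ : ∀ x, μ x = (g : ZMod p) * x := fun x => rfl
  have hg1 : (g : ZMod p) ≠ 1 := by
    intro h
    have hg' : g = 1 := Units.ext h
    have h2 : (-1 : (ZMod p)ˣ) = 1 := by
      obtain ⟨k, hk⟩ := Subgroup.mem_zpowers_iff.1 (hg (-1))
      rw [hg', one_zpow] at hk
      exact hk.symm
    have h3 := congrArg Units.val h2
    simp only [Units.val_neg, Units.val_one] at h3
    have h4 : ((2 : ℕ) : ZMod p) = 0 := by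
      push_cast
      linear_combination -h3
    rw [ZMod.natCast_eq_zero_iff, Nat.dvd_prime Nat.prime_two] at *
    rcases h4 with h4 | h4
    · exact hpp.ne_one h4
    · exact hp h4
  have hsupp : μ.support = Finset.univ.erase 0 := by
    ext x
    simp only [Perm.mem_support, hμ, Finset.mem_erase, Finset.mem_univ, and_true]
    refine ⟨fun h e => h (by rw [e, mul_zero]), fun h e => hg1 ?_⟩
    exact mul_right_cancel₀ h (e.trans (one_mul x).symm)
  have hcyc : μ.IsCycle := by
    refine ⟨1, by rw [hμ, mul_one]; exact hg1, fun y hy => ?_⟩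
    have hy0 : y ≠ 0 := fun e => hy (by rw [e, hμ, mul_zero])
    have hmem : Units.mk0 y hy0 ∈ Submonoid.powers g := by
      rw [mem_powers_iff_mem_zpowers]; exact hg _
    obtain ⟨k, hk⟩ := hmem
    have hpow : ∀ j : ℕ, (μ ^ j) 1 = (g : ZMod p) ^ j := by
      intro j
      induction j with
      | zero => simp
      | succ j ih => rw [pow_succ', Perm.mul_apply, ih, hμ, pow_succ']
    refine ⟨k, ?_⟩
    rw [zpow_natCast, hpow]
    have := congrArg Units.val hk
    simpa using this
  rw [hcyc.sign, hsupp, Finset.card_erase_of_mem (Finset.mem_univ _), Finset.card_univ, ZMod.card]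
  obtain ⟨k, hk⟩ := hpp.odd_of_ne_two hp
  rw [show p - 1 = 2 * k by omega, pow_mul]
  simp

/-- The four relations. -/
theorem isPres_base (hp : p ≠ 2) : ∃ R : List (FreeGroup (Fin 2)), R.length ≤ 4 ∧
    IsPres R ![shift p hp, zc p 0] := by
  classical
  have hpp : p.Prime := Fact.out
  obtain ⟨g, hg⟩ := IsCyclic.exists_generator (α := (ZMod p)ˣ)
  obtain ⟨gn, hgne, hgn⟩ : ∃ gn : ℕ, Even gn ∧ (gn : ZMod p) = (g : ZMod p) := by
    rcases Nat.even_or_odd ((g : ZMod p).val) with h | h
    · exact ⟨_, h, ZMod.natCast_zmod_val _⟩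
    · exact ⟨(g : ZMod p).val + p, h.add_odd (hpp.odd_of_ne_two hp), by simp⟩
  let μ : Perm (ZMod p) := Equiv.mulLeft₀ (g : ZMod p) g.ne_zero
  have hμs : Perm.sign μ = -1 := sign_mulLeft p hg hp
  let h0 : alternatingGroup (Pts p) := ⟨Equiv.sumCongr (swap false true) μ, by
    rw [mem_alternatingGroup, Equiv.Perm.sign_sumCongr, sign_swap (by decide), hμs]; decide⟩
  have hh0 : ∀ i, (h0 : Perm (Pts p)) (Sum.inr i) = Sum.inr ((g : ZMod p) * i) := fun i => rfl
  have hh0l : ∀ c, (h0 : Perm (Pts p)) (Sum.inl c) = Sum.inl (!c) := fun c => by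
    cases c <;> simp [h0]
  set x0 := zc p 0
  set c0 := shift p hp
  have hne : ∀ i : ZMod p, (Sum.inl false : Pts p) ≠ Sum.inr i := fun i => Sum.inl_ne_inr
  have hne' : ∀ i : ZMod p, (Sum.inl true : Pts p) ≠ Sum.inr i := fun i => Sum.inl_ne_inr
  have hft : (Sum.inl false : Pts p) ≠ Sum.inl true := by simp
  have hc0 : ∀ k : ℕ, ∀ i, c0 ^ k * zc p i * (c0 ^ k)⁻¹ = zc p (k + i) := fun k i => by
    rw [cyc_conj _ hft (hne i), shift_pow_apply]; simp
  have hh0z : ∀ i, h0 * zc p i * h0⁻¹ = (zc p ((g : ZMod p) * i))⁻¹ := fun i => by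
    rw [cyc_conj _ hft (hne i), hh0, hh0l, hh0l, cyc_inv hft (hne _) (hne' _)]
    rfl
  have hgen : Subgroup.closure (Set.range (zc p)) = ⊤ := by
    rw [eq_top_iff, ← closure_cyc hft]
    refine Subgroup.closure_mono ?_
    rintro _ ⟨i, h1, h2, rfl⟩
    rcases i with (_ | _) | i
    · exact absurd rfl h1
    · exact absurd rfl h2
    · exact ⟨i, rfl⟩
  obtain ⟨Wc, hWc⟩ := exists_word hgen c0
  obtain ⟨Wh, hWh⟩ := exists_word hgen h0
  let C : FreeGroup (Fin 2) := FreeGroup.of 0
  let X : FreeGroup (Fin 2) := FreeGroup.of 1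
  let S : ZMod p → FreeGroup (Fin 2) := fun i => C ^ i.val * X * (C ^ i.val)⁻¹
  let H : FreeGroup (Fin 2) := FreeGroup.lift S Wh
  let R : List (FreeGroup (Fin 2)) := [C ^ p * (X ^ 3)⁻¹, H * C * H⁻¹ * (C ^ gn)⁻¹,
    H * X * H⁻¹ * X, (X * (C * X * C⁻¹)) ^ 2]
  let f : Fin 2 → alternatingGroup (Pts p) := ![c0, x0]
  have hfC : FreeGroup.lift f C = c0 := FreeGroup.lift_apply_of
  have hfX : FreeGroup.lift f X = x0 := FreeGroup.lift_apply_of
  have hfS : (fun i => FreeGroup.lift f (S i)) = zc p := funext fun i => by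
    simp only [S, map_mul, map_inv, map_pow, hfC, hfX]
    rw [hc0, ZMod.natCast_zmod_val, add_zero]
  have hfH : FreeGroup.lift f H = h0 := by simp only [H]; rw [lift_lift, hfS, hWh]
  have hc0p : c0 ^ p = 1 := Subtype.ext (by
    rw [shift_pow_apply, ZMod.natCast_self]
    ext y; cases y <;> simp)
  have hh0c : h0 * c0 * h0⁻¹ = c0 ^ gn := by
    rw [mul_inv_eq_iff_eq_mul]
    refine Subtype.ext (Equiv.ext fun y => ?_)
    rw [Subgroup.coe_mul, Subgroup.coe_mul, shift_pow_apply, hgn]
    rcases y with c | i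
    · simp [Equiv.Perm.mul_apply, hh0l, c0, shift]
    · simp only [Equiv.Perm.mul_apply, hh0, c0, shift, Equiv.sumCongr_apply, Sum.map_inr,
        Equiv.coe_addLeft]
      congr 1; ring
  refine ⟨R, le_rfl, fun r hr => ?_, ?_, ?_⟩
  · change FreeGroup.lift f r = 1
    simp only [R, List.mem_cons, List.not_mem_nil, or_false] at hr
    rcases hr with rfl | rfl | rfl | rfl
    · rw [map_mul, map_inv, map_pow, map_pow, hfC, hfX, hc0p, cyc_cube hft (hne 0) (hne' 0)]; simp
    · simp only [map_mul, map_inv, map_pow, hfC, hfH, mul_inv_eq_one]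
      exact hh0c
    · simp only [map_mul, map_inv, hfX, hfH]
      rw [hh0z, mul_zero, inv_mul_cancel]
    · simp only [map_pow, map_mul, map_inv, hfX, hfC]
      have := hc0 1 0
      rw [pow_one] at this
      rw [this]
      refine cyc_sq hft (hne _) (hne' _) (hne _) (hne' _) ?_
      simp
  · rw [eq_top_iff, ← hgen, Subgroup.closure_le]
    rintro _ ⟨i, rfl⟩
    rw [← congrFun hfS i, SetLike.mem_coe, ← FreeGroup.range_lift_eq_closure]
    exact ⟨_, rfl⟩
  intro G _ f' hf'
  simp only [R, List.forall_mem_cons, List.not_mem_nil, false_imp_iff, implies_true, and_true] at hf'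
  obtain ⟨r1, r2, r4, r5⟩ := hf'
  set c := f' 0
  set h := FreeGroup.lift f' H
  set x := f' 1
  have hC : FreeGroup.lift f' C = c := FreeGroup.lift_apply_of
  have hH : FreeGroup.lift f' H = h := rfl
  have hX : FreeGroup.lift f' X = x := FreeGroup.lift_apply_of
  simp only [map_mul, map_inv, map_pow, hC, hH, hX, mul_inv_eq_one] at r1 r2 r5
  simp only [map_mul, map_inv, hH, hX] at r4
  have r4' : h * x * h⁻¹ = x⁻¹ := eq_inv_of_mul_eq_one_left r4
  -- the common value of the two powers is trivial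
  have hcomm : ∀ w : FreeGroup (Fin 2), Commute (x ^ 3) (FreeGroup.lift f' w) := by
    intro w
    induction w using FreeGroup.induction_on with
    | C1 => rw [map_one]; exact Commute.one_right _
    | of i =>
      rw [FreeGroup.lift_apply_of]
      fin_cases i
      · show Commute (x ^ 3) c
        rw [← r1]; exact Commute.pow_self c p
      · exact Commute.pow_self x 3
    | inv_of i hi => rw [map_inv]; exact hi.inv_right
    | mul a b ha hb => rw [map_mul]; exact ha.mul_right hb
  have hx3i : x ^ 3 = (x ^ 3)⁻¹ := by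
    conv_rhs => rw [← inv_pow, ← r4', conj_pow]
    rw [← (hcomm H).eq, mul_inv_cancel_right]
  have r3 : x ^ 3 = 1 := by
    have h1 : h * c ^ p * h⁻¹ = (c ^ p) ^ gn := by
      rw [← conj_pow, r2, ← pow_mul, ← pow_mul, mul_comm]
    rw [r1, ← (hcomm H).eq, mul_inv_cancel_right] at h1
    obtain ⟨k, hk⟩ := hgne
    rw [h1, hk, ← two_mul, pow_mul]
    have h2 : (x ^ 3) ^ 2 = 1 := by
      rw [pow_two]
      nth_rewrite 1 [hx3i]
      exact inv_mul_cancel _
    rw [h2, one_pow]
  rw [r3] at r1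
  let z : ℕ → G := fun k => c ^ k * x * (c ^ k)⁻¹
  have hmod : ∀ k : ℕ, c ^ k = c ^ ((k : ZMod p)).val := fun k => by
    conv_lhs => rw [← Nat.mod_add_div k p, pow_add, pow_mul, r1, one_pow, mul_one]
    rw [ZMod.val_natCast]
  have zmod : ∀ k l : ℕ, (k : ZMod p) = l → z k = z l := fun k l hkl => by
    show c ^ k * x * (c ^ k)⁻¹ = c ^ l * x * (c ^ l)⁻¹
    rw [hmod k, hmod l, hkl]
  have z3 : ∀ k, z k ^ 3 = 1 := fun k => by rw [conj_pow, r3, mul_one, mul_inv_cancel]
  have hzk : ∀ k l, c ^ k * z l * (c ^ k)⁻¹ = z (k + l) := fun k l => by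
    simp only [z, pow_add]; group
  have hconjh : ∀ k, h * z k * h⁻¹ = (z (gn * k))⁻¹ := fun k => by
    have hck : h * c ^ k * h⁻¹ = c ^ (gn * k) := by
      rw [← conj_pow, r2, ← pow_mul]
    calc h * z k * h⁻¹ = (h * c ^ k * h⁻¹) * (h * x * h⁻¹) * (h * c ^ k * h⁻¹)⁻¹ := by
          simp only [z]; group
      _ = _ := by rw [hck, r4']; simp only [z]; group
  have hswap : ∀ A B : G, (B * A) ^ 2 = 1 → (A * B) ^ 2 = 1 := fun A B hBA => by
    rw [show A * B = B⁻¹ * (B * A) * (B⁻¹)⁻¹ by group, conj_pow, hBA, mul_one, mul_inv_cancel]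
  have hpair : ∀ j : ℕ, (z 0 * z (gn ^ j)) ^ 2 = 1 := by
    intro j
    induction j with
    | zero => simpa [z] using r5
    | succ j ih =>
      have h1 : (h * z 0 * h⁻¹ * (h * z (gn ^ j) * h⁻¹)) ^ 2 = 1 := by
        rw [show h * z 0 * h⁻¹ * (h * z (gn ^ j) * h⁻¹) =
          h * (z 0 * z (gn ^ j)) * h⁻¹ by group, conj_pow, ih, mul_one, mul_inv_cancel]
      rw [hconjh, hconjh, mul_zero, ← pow_succ', ← mul_inv_rev, inv_pow, inv_eq_one] at h1
      exact hswap _ _ h1
  have hall : ∀ d : ℕ, (d : ZMod p) ≠ 0 → (z 0 * z d) ^ 2 = 1 := by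
    intro d hd
    obtain ⟨j', hj'⟩ : ∃ j' : ℕ, g ^ j' = Units.mk0 _ hd := by
      have hmem : Units.mk0 _ hd ∈ Submonoid.powers g := by
        rw [mem_powers_iff_mem_zpowers]; exact hg _
      exact hmem
    rw [zmod d (gn ^ j') (by
      rw [Nat.cast_pow, hgn, ← Units.val_pow_eq_pow_val, hj', Units.val_mk0])]
    exact hpair j'
  have hsq : ∀ i j : ZMod p, i ≠ j → (z i.val * z j.val) ^ 2 = 1 := by
    intro i j hij
    have := hall (j - i).val (by rw [ZMod.natCast_zmod_val]; exact sub_ne_zero.2 hij.symm)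
    rw [zmod j.val (i.val + (j - i).val) (by simp), ← hzk, show z i.val = c ^ i.val * z 0 * (c ^ i.val)⁻¹ by
      rw [hzk, add_zero]]
    rw [show c ^ i.val * z 0 * (c ^ i.val)⁻¹ * (c ^ i.val * z (j - i).val * (c ^ i.val)⁻¹) =
      c ^ i.val * (z 0 * z (j - i).val) * (c ^ i.val)⁻¹ by group, conj_pow, this, mul_one, mul_inv_cancel]
  let z' : Pts p → G := fun y => y.elim (fun _ => 1) (fun i => z i.val)
  obtain ⟨φ, hφ⟩ := carmichael hft z'
    (fun i h1 h2 => by rcases i with _ | i <;> [exact one_pow 3; exact z3 _])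
    (fun i j hi1 hi2 hj1 hj2 hij => by
      rcases i with (_ | _) | i
      · exact absurd rfl hi1
      · exact absurd rfl hi2
      rcases j with (_ | _) | j
      · exact absurd rfl hj1
      · exact absurd rfl hj2
      exact hsq i j fun hh => hij (congrArg Sum.inr hh))
  have hφz : ∀ i : ZMod p, φ (zc p i) = z i.val := fun i => hφ _ (hne i).symm (hne' i).symm
  have hφS : (fun i => φ (zc p i)) = fun i => FreeGroup.lift f' (S i) := funext fun i => by
    rw [hφz]; simp only [S, z, map_mul, map_inv, map_pow, hC, hX]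
  have hWh' : φ h0 = h := by
    rw [← hWh, lift_comp, hφS, ← lift_lift]
  obtain ⟨lam, hlam⟩ : ∃ lam, lam = (φ c0)⁻¹ * c := ⟨_, rfl⟩
  have hclam : c = φ c0 * lam := by rw [hlam]; group
  have hl : ∀ y, Commute lam (φ y) := by
    intro y
    have hy : y ∈ Subgroup.closure (Set.range (zc p)) := by rw [hgen]; trivial
    induction hy using Subgroup.closure_induction with
    | mem y hy =>
      obtain ⟨i, rfl⟩ := hy
      have h1 : c * φ (zc p i) * c⁻¹ = φ c0 * φ (zc p i) * (φ c0)⁻¹ := by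
        have h2 := hc0 1 i
        rw [pow_one] at h2
        rw [← map_inv, ← map_mul, ← map_mul, h2, hφz, hφz]
        have h3 := hzk 1 i.val
        rw [pow_one] at h3
        rw [h3]
        exact zmod _ _ (by simp)
      rw [hlam, commute_iff_eq]
      calc (φ c0)⁻¹ * c * φ (zc p i) = (φ c0)⁻¹ * (c * φ (zc p i) * c⁻¹) * c := by group
        _ = _ := by rw [h1]; group
    | one => rw [map_one]; exact Commute.one_right _
    | mul a b _ _ ha hb => rw [map_mul]; exact ha.mul_right hb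
    | inv a _ ha => rw [map_inv]; exact ha.inv_right
  have hlp : lam ^ p = 1 := by
    have := r1
    rw [hclam, (hl c0).symm.mul_pow, ← map_pow, hc0p, map_one, one_mul] at this
    exact this
  have hlg : lam = lam ^ gn := by
    have h1 := r2
    rw [hclam, ← hWh', (hl c0).symm.mul_pow, ← map_pow, ← hh0c, map_mul, map_mul, map_inv] at h1
    rw [show φ h0 * (φ c0 * lam) * (φ h0)⁻¹ = φ h0 * φ c0 * (lam * (φ h0)⁻¹) by group,
      ((hl h0).inv_right).eq, ← mul_assoc] at h1
    exact mul_left_cancel h1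
  have hl1 : lam = 1 := by
    have hd1 : orderOf lam ∣ p := orderOf_dvd_of_pow_eq_one hlp
    rcases (Nat.dvd_prime hpp).1 hd1 with h | h
    · exact orderOf_eq_one_iff.1 h
    · have h2 : gn ≡ 1 [MOD p] := by
        rw [← h, ← pow_eq_pow_iff_modEq, pow_one, ← hlg]
      rw [← ZMod.natCast_eq_natCast_iff, hgn, Nat.cast_one] at h2
      have h3 := sign_mulLeft p hg hp
      rw [show (Equiv.mulLeft₀ (g : ZMod p) g.ne_zero : Perm (ZMod p)) = 1 by
        ext y; simp [h2], map_one] at h3
      exact absurd h3 (by decide)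
  have hWc' : φ c0 = c := by rw [hclam, hl1, mul_one]
  refine ⟨φ, fun i => ?_⟩
  fin_cases i
  · exact hWc'
  · show φ x0 = x
    rw [hφz, ZMod.val_zero]; simp [z]

end CfsgLib.AltPres
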