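import Mathlib.NumberTheory.Bertrand
import Mathlib.Tactic

/-!
A slightly sharpened Bertrand postulate: for `4 ≤ n` there is a prime in `(n, 2 n - 2]`.
-/

set_option autoImplicit false

namespace CfsgLib.AltPres

open Nat

theorem small_chain {n : ℕ} (q : ℕ) {p : ℕ} (prime_p : Nat.Prime p) (covering : p + 2 ≤ 2 * q)
    (H : n < q → ∃ r : ℕ, r.Prime ∧ n < r ∧ r + 2 ≤ 2 * n) (hn : n < p) :
    ∃ r : ℕ, r.Prime ∧ n < r ∧ r + 2 ≤ 2 * n := by
  rcases Nat.lt_or_ge n q with h | h
  · exact H h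
  · exact ⟨p, prime_p, hn, by omega⟩

theorem eventually_sharp (n : ℕ) (hn : 512 ≤ n) : ∃ p : ℕ, p.Prime ∧ n < p ∧ p + 2 ≤ 2 * n := by
  by_contra hno
  push Not at hno
  have h1 : ∀ p : ℕ, p.Prime → n < p → p ≠ 2 * n - 1 → 2 * n < p := by
    intro p hp hnp hne
    have := hno p hp hnp
    rcases Nat.lt_or_ge (2 * n) p with h | h
    · exact h
    exfalso
    have h2 : p ≠ 2 * n := fun e => by
      have h3 := hp.eq_one_or_self_of_dvd 2 (e ▸ dvd_mul_right 2 n)
      omega
    omega
  set f : ℕ → ℕ := fun x => x ^ n.centralBinom.factorization x with hf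
  set r := sqrt (2 * n) with hr
  have hr2 : r * r ≤ 2 * n := Nat.sqrt_le _
  have hrlt : 2 * n < (r + 1) * (r + 1) := Nat.lt_succ_sqrt _
  let S := (Finset.range (2 * n + 1)).filter fun p => f p ≠ 1
  have hprod : ∏ p ∈ S, f p = n.centralBinom := by
    conv_rhs => rw [← n.prod_pow_factorization_centralBinom]
    exact Finset.prod_filter_ne_one _
  have hS : ∀ p ∈ S, p.Prime ∧ (p ≤ r ∨ (r < p ∧ p ≤ 2 * n / 3) ∨ p = 2 * n - 1) := by
    intro p hp
    obtain ⟨hp1, hp2⟩ := Finset.mem_filter.1 hp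
    rw [Finset.mem_range] at hp1
    have hpp : p.Prime := by
      by_contra h
      apply hp2
      simp [hf, factorization_eq_zero_of_not_prime n.centralBinom h]
    refine ⟨hpp, ?_⟩
    rcases Nat.lt_or_ge r p with h | h
    · by_cases he : p = 2 * n - 1
      · exact Or.inr (Or.inr he)
      rcases Nat.lt_or_ge n p with h' | h'
      · have := h1 p hpp h' he
        omega
      refine Or.inr (Or.inl ⟨h, ?_⟩)
      by_contra hlt
      apply hp2
      simp only [hf]
      rw [factorization_centralBinom_of_two_mul_self_lt_three_mul (by omega) h' (by omega), pow_zero]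
    · exact Or.inl h
  have hle1 : ∀ p, f p ≤ 2 * n := fun p => pow_factorization_choose_le (by omega)
  have hbig : ∀ p ∈ S, r < p → f p ≤ p := by
    intro p hp h
    have hpp := (hS p hp).1
    refine (Nat.pow_le_pow_right hpp.pos ?_).trans (pow_one p).le
    exact Nat.factorization_choose_le_one (Nat.sqrt_lt'.1 h)
  have hA : ∏ p ∈ S.filter (· ≤ r), f p ≤ (2 * n) ^ (r - 1) := by
    refine (Finset.prod_le_prod' fun p _ => hle1 p).trans ?_
    rw [Finset.prod_const]
    refine Nat.pow_le_pow_right (by omega) ?_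
    refine (Finset.card_le_card (t := Finset.Icc 2 r) fun p hp => ?_).trans (by simp)
    obtain ⟨hp1, hp2⟩ := Finset.mem_filter.1 hp
    exact Finset.mem_Icc.2 ⟨(hS p hp1).1.two_le, hp2⟩
  have hB : ∏ p ∈ (S.filter (¬ · ≤ r)).filter (· ≤ 2 * n / 3), f p ≤ 4 ^ (2 * n / 3) := by
    refine le_trans ?_ (primorial_le_four_pow (2 * n / 3))
    refine (Finset.prod_le_prod' fun p hp => ?_ : _ ≤ ∏ p ∈ (S.filter (¬ · ≤ r)).filter (· ≤ 2 * n / 3), p).trans ?_
    · obtain ⟨hp1, -⟩ := Finset.mem_filter.1 hp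
      obtain ⟨hp2, hp3⟩ := Finset.mem_filter.1 hp1
      exact hbig p hp2 (not_le.1 hp3)
    refine Finset.prod_le_prod_of_subset_of_one_le' (fun p hp => ?_) ?_
    · obtain ⟨hp1, hp3⟩ := Finset.mem_filter.1 hp
      exact Finset.mem_filter.2 ⟨Finset.mem_range.2 (Nat.lt_succ_of_le hp3),
        (hS p (Finset.mem_filter.1 hp1).1).1⟩
    · exact fun p hp _ => (Finset.mem_filter.1 hp).2.one_lt.le
  have hC : ∏ p ∈ (S.filter (¬ · ≤ r)).filter (¬ · ≤ 2 * n / 3), f p ≤ 2 * n := by
    have hsub : (S.filter (¬ · ≤ r)).filter (¬ · ≤ 2 * n / 3) ⊆ {2 * n - 1} := by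
      intro p hp
      obtain ⟨hp1, hp3⟩ := Finset.mem_filter.1 hp
      obtain ⟨hp2, hp4⟩ := Finset.mem_filter.1 hp1
      rw [Finset.mem_singleton]
      rcases (hS p hp2).2 with h | ⟨-, h⟩ | h
      · exact absurd h hp4
      · exact absurd h hp3
      · exact h
    rcases Finset.subset_singleton_iff.1 hsub with h | h
    · rw [h, Finset.prod_empty]; omega
    · rw [h, Finset.prod_singleton]; exact hle1 _
  have hr1 : 1 ≤ r := by nlinarith
  have hmain : n.centralBinom ≤ (2 * n) ^ r * 4 ^ (2 * n / 3) := by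
    rw [← hprod, ← Finset.prod_filter_mul_prod_filter_not S (· ≤ r),
      ← Finset.prod_filter_mul_prod_filter_not (S.filter (¬ · ≤ r)) (· ≤ 2 * n / 3)]
    calc _ ≤ (2 * n) ^ (r - 1) * (4 ^ (2 * n / 3) * (2 * n)) := Nat.mul_le_mul hA (Nat.mul_le_mul hB hC)
      _ = (2 * n) ^ (r - 1 + 1) * 4 ^ (2 * n / 3) := by ring
      _ = _ := by rw [Nat.sub_add_cancel hr1]
  have h4 := Nat.four_pow_lt_mul_centralBinom n (le_trans (by norm_num) hn)
  have h5 := bertrand_main_inequality hn
  have h6 : n * n.centralBinom ≤ 4 ^ n := by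
    refine (Nat.mul_le_mul_left n hmain).trans ?_
    rw [← mul_assoc]; exact h5
  omega

/-- A prime strictly between `n` and `2 n - 1`. -/
theorem exists_prime_sharp (n : ℕ) (hn : 4 ≤ n) : ∃ p : ℕ, p.Prime ∧ n < p ∧ p + 2 ≤ 2 * n := by
  rcases Nat.lt_or_ge n 512 with h | h
  swap
  · exact eventually_sharp n h
  have h' : n < 541 := by omega
  refine small_chain 317 (by norm_num) (by norm_num) (fun h' => ?_) h'
  refine small_chain 163 (by norm_num) (by norm_num) (fun h' => ?_) h'
  refine small_chain 83 (by norm_num) (by norm_num) (fun h' => ?_) h'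
  refine small_chain 43 (by norm_num) (by norm_num) (fun h' => ?_) h'
  refine small_chain 23 (by norm_num) (by norm_num) (fun h' => ?_) h'
  refine small_chain 13 (p := 23) (by norm_num) (by norm_num) (fun h' => ?_) h'
  refine small_chain 8 (p := 13) (by norm_num) (by norm_num) (fun h' => ?_) h'
  rcases Nat.lt_or_ge n 7 with h7 | h7
  · rcases Nat.lt_or_ge n 5 with h5 | h5
    · exact ⟨5, by norm_num, h5, by omega⟩
    · exact ⟨7, by norm_num, h7, by omega⟩
  · exact ⟨11, by norm_num, by omega, by omega⟩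

end CfsgLib.AltPres
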