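import Cfsg.Agent.BPres.AltGlue

/-!
Homomorphisms out of the symmetric group from homomorphisms out of the alternating group, and
conjugation of alternating groups by arbitrary permutations.
-/

set_option autoImplicit false
set_option linter.style.haveILetI false
set_option linter.unusedSectionVars false

namespace CfsgLib.AltPres

open Equiv Equiv.Perm CfsgLib.BPres

universe u v

variable {α : Type u} [Fintype α] [DecidableEq α]

/-- Conjugation of the alternating group by a permutation. -/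
def cj (σ : Perm α) : alternatingGroup α →* alternatingGroup α where
  toFun y := ⟨σ * (y : Perm α) * σ⁻¹, (inferInstance : (alternatingGroup α).Normal).conj_mem _ y.2 σ⟩
  map_one' := Subtype.ext (by simp)
  map_mul' y z := Subtype.ext (by simp only [Subgroup.coe_mul]; group)

theorem cj_val (σ : Perm α) (y : alternatingGroup α) :
    (cj σ y : Perm α) = σ * (y : Perm α) * σ⁻¹ := rfl

theorem cj_one (y : alternatingGroup α) : cj (1 : Perm α) y = y := Subtype.ext (by simp [cj_val])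

theorem cj_mul (σ τ : Perm α) (y : alternatingGroup α) : cj (σ * τ) y = cj σ (cj τ y) :=
  Subtype.ext (by simp only [cj_val]; group)

theorem cj_cyc (σ : Perm α) {a b i : α} (hab : a ≠ b) (hai : a ≠ i) :
    cj σ (cyc a b i) = cyc (σ a) (σ b) (σ i) := by
  refine Subtype.ext ?_
  rw [cj_val, cyc_val hab hai, cyc_val (σ.injective.ne hab) (σ.injective.ne hai),
    Equiv.swap_apply_apply, Equiv.swap_apply_apply]
  group

theorem cj_coe (σ y : alternatingGroup α) : cj (σ : Perm α) y = σ * y * σ⁻¹ :=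
  Subtype.ext (by simp [cj_val])

/-- The group is generated by the alternating group and one odd permutation. -/
theorem closure_insert_odd {d : Perm α} (hd : Perm.sign d = -1) {S : Set (Perm α)}
    (hS : ∀ y : alternatingGroup α, (y : Perm α) ∈ Subgroup.closure S) (hdS : d ∈ Subgroup.closure S) :
    Subgroup.closure S = ⊤ := by
  rw [eq_top_iff]
  intro σ _
  rcases Int.units_eq_one_or (Perm.sign σ) with h | h
  · exact hS ⟨σ, h⟩
  · have : σ = (σ * d⁻¹) * d := by group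
    rw [this]
    refine Subgroup.mul_mem _ (hS ⟨σ * d⁻¹, ?_⟩) hdS
    rw [mem_alternatingGroup, map_mul, Perm.sign_inv, h, hd]
    decide

/-- Extending a homomorphism from the alternating group to the symmetric group. -/
theorem ext_odd {G : Type v} [Group G] {d : Perm α} (hd : Perm.sign d = -1)
    (Φ : alternatingGroup α →* G) (δ : G) (hc : ∀ y, δ * Φ y * δ⁻¹ = Φ (cj d y))
    (d2 : alternatingGroup α) (hd2 : (d2 : Perm α) = d ^ 2) (h2 : δ ^ 2 = Φ d2) :
    ∃ ψ : Perm α →* G, (∀ y : alternatingGroup α, ψ (y : Perm α) = Φ y) ∧ ψ d = δ := by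
  classical
  have hev : ∀ σ, Perm.sign σ = -1 → σ * d⁻¹ ∈ alternatingGroup α := fun σ h => by
    rw [mem_alternatingGroup, map_mul, Perm.sign_inv, h, hd]; decide
  have hne : ∀ σ : Perm α, ¬ Perm.sign σ = 1 → Perm.sign σ = -1 := fun σ h =>
    (Int.units_eq_one_or _).resolve_left h
  let f : Perm α → G := fun σ =>
    if h : Perm.sign σ = 1 then Φ ⟨σ, h⟩ else Φ ⟨σ * d⁻¹, hev σ (hne σ h)⟩ * δ
  have hf1 : ∀ σ (h : Perm.sign σ = 1), f σ = Φ ⟨σ, h⟩ := fun σ h => dif_pos h
  have hf2 : ∀ σ (h : Perm.sign σ = -1), f σ = Φ ⟨σ * d⁻¹, hev σ h⟩ * δ := fun σ h =>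
    dif_neg (by rw [h]; decide)
  have hmul : ∀ σ τ, f (σ * τ) = f σ * f τ := by
    intro σ τ
    rcases Int.units_eq_one_or (Perm.sign σ) with hσ | hσ <;>
      rcases Int.units_eq_one_or (Perm.sign τ) with hτ | hτ
    · have h : Perm.sign (σ * τ) = 1 := by simp [hσ, hτ]
      rw [hf1 σ hσ, hf1 τ hτ, hf1 (σ * τ) h, ← map_mul]
      rfl
    · have h : Perm.sign (σ * τ) = -1 := by simp [hσ, hτ]
      rw [hf1 σ hσ, hf2 τ hτ, hf2 (σ * τ) h, ← mul_assoc, ← map_mul]
      congr 2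
    · have h : Perm.sign (σ * τ) = -1 := by simp [hσ, hτ]
      rw [hf2 σ hσ, hf1 τ hτ, hf2 (σ * τ) h, mul_assoc (Φ _) δ,
        show δ * Φ ⟨τ, hτ⟩ = δ * Φ ⟨τ, hτ⟩ * δ⁻¹ * δ by group, hc, ← mul_assoc, ← map_mul]
      congr 2
      refine Subtype.ext ?_
      show σ * τ * d⁻¹ = σ * d⁻¹ * (d * τ * d⁻¹)
      group
    · have h : Perm.sign (σ * τ) = 1 := by simp [hσ, hτ]
      rw [hf2 σ hσ, hf2 τ hτ, hf1 (σ * τ) h]
      rw [show Φ ⟨σ * d⁻¹, hev σ hσ⟩ * δ * (Φ ⟨τ * d⁻¹, hev τ hτ⟩ * δ) =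
        Φ ⟨σ * d⁻¹, hev σ hσ⟩ * (δ * Φ ⟨τ * d⁻¹, hev τ hτ⟩ * δ⁻¹) * δ ^ 2 by rw [pow_two]; group,
        hc, h2, ← map_mul, ← map_mul]
      congr 1
      refine Subtype.ext ?_
      show σ * τ = σ * d⁻¹ * (d * (τ * d⁻¹) * d⁻¹) * (d2 : Perm α)
      rw [hd2, pow_two]
      group
  refine ⟨MonoidHom.mk' f hmul, fun y => hf1 _ y.2, ?_⟩
  show f d = δ
  rw [hf2 d hd]
  rw [show (⟨d * d⁻¹, hev d hd⟩ : alternatingGroup α) = 1 from Subtype.ext (mul_inv_cancel d), map_one,
    one_mul]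

/-- A target for presentations by the alternating cycles and one further element. -/
structure Tgt (α : Type u) [Fintype α] [DecidableEq α] (d : Perm α) where
  B : Type u
  [inst : Group B]
  ι : alternatingGroup α →* B
  dB : B
  q : ℕ
  dq : alternatingGroup α
  dq_val : (dq : Perm α) = d ^ q
  dB_q : dB ^ q = ι dq
  dB_pow : ∀ k : ℕ, d ^ k = 1 → dB ^ k = 1
  conj : ∀ y, dB * ι y * dB⁻¹ = ι (cj d y)
  gen : ∀ K : Subgroup B, (∀ y, ι y ∈ K) → dB ∈ K → K = ⊤
  univ : ∀ (G : Type) [Group G] (Φ : alternatingGroup α →* G) (δ : G),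
    (∀ y, δ * Φ y * δ⁻¹ = Φ (cj d y)) → δ ^ q = Φ dq → ∃ ψ : B →* G, (∀ y, ψ (ι y) = Φ y) ∧ ψ dB = δ

attribute [instance] Tgt.inst

/-- The alternating group as a target. -/
def tgtAlt (d : Perm α) (hd : Perm.sign d = 1) : Tgt α d where
  B := alternatingGroup α
  ι := MonoidHom.id _
  dB := ⟨d, hd⟩
  q := 1
  dq := ⟨d, hd⟩
  dq_val := (pow_one d).symm
  dB_q := pow_one _
  dB_pow k hk := Subtype.ext (by rw [Subgroup.coe_pow]; exact hk)
  conj y := Subtype.ext rfl
  gen K hK _ := eq_top_iff.2 fun y _ => hK y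
  univ G _ Φ δ _ hq := ⟨Φ, fun _ => rfl, by rw [pow_one] at hq; exact hq.symm⟩

/-- The symmetric group as a target. -/
def tgtSym (d : Perm α) (hd : Perm.sign d = -1) : Tgt α d where
  B := Perm α
  ι := (alternatingGroup α).subtype
  dB := d
  q := 2
  dq := ⟨d ^ 2, by rw [mem_alternatingGroup, map_pow, hd]; decide⟩
  dq_val := rfl
  dB_q := rfl
  dB_pow _ hk := hk
  conj _ := rfl
  gen K hK hdK := by
    rw [← K.closure_eq]
    exact closure_insert_odd hd (fun y => Subgroup.subset_closure (hK y)) (Subgroup.subset_closure hdK)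
  univ G _ Φ δ hc hq := by
    obtain ⟨ψ, h1, h2⟩ := ext_odd hd Φ δ hc _ rfl hq
    exact ⟨ψ, h1, h2⟩

end CfsgLib.AltPres
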