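import Cfsg.Agent.AltPres.Base
import Cfsg.Agent.AltPres.Ext

/-!
The alternating and symmetric groups of degree `p + 2 + e` by two generators and six relations.

The points are the two special ones, the window `ZMod p` and `e` further points. The second generator
is the product of a cycle of length `l + e` (through `1, …, l` of the window and the further points)
and a three-cycle commuting with it.
-/

set_option autoImplicit false
set_option linter.style.haveILetI false
set_option linter.unusedSectionVars false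

namespace CfsgLib.AltPres

open Equiv Equiv.Perm CfsgLib.BPres

variable (p e l : ℕ) [Fact p.Prime]

/-- all the points -/
abbrev Gam := Bool ⊕ Fin (p + e)

/-- the cycle on the two points and `a` -/
abbrev ζ (a : Fin (p + e)) : alternatingGroup (Gam p e) :=
  cyc (Sum.inl false) (Sum.inl true) (Sum.inr a)

/-- the window -/
def win : Pts p ↪ Gam p e :=
  ⟨Sum.map id fun i => ⟨i.val, lt_of_lt_of_le (ZMod.val_lt i) (Nat.le_add_right _ _)⟩,
    Function.Injective.sumMap Function.injective_id fun i j h =>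
      ZMod.val_injective p (congrArg Fin.val h)⟩

variable {p e l}

theorem win_inr (i : ZMod p) :
    win p e (Sum.inr i) = Sum.inr ⟨i.val, lt_of_lt_of_le (ZMod.val_lt i) (Nat.le_add_right _ _)⟩ := rfl

theorem win_inl (b : Bool) : win p e (Sum.inl b) = Sum.inl b := rfl

/-- the points of the long cycle -/
def trk (hl : l + 1 ≤ p) : Fin (l + e) ↪ Fin (p + e) :=
  ⟨fun i => ⟨if i.val < l then i.val + 1 else p + (i.val - l), by
      have := i.isLt
      split_ifs <;> omega⟩,
    fun i j h => by
      have h' := congrArg Fin.val h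
      simp only at h'
      apply Fin.ext
      split_ifs at h' <;> omega⟩

theorem trk_val (hl : l + 1 ≤ p) (i : Fin (l + e)) :
    (trk hl i).val = if i.val < l then i.val + 1 else p + (i.val - l) := rfl

/-- the long cycle -/
def dlt (hl : l + 1 ≤ p) : Perm (Gam p e) :=
  Equiv.sumCongr (Equiv.refl Bool) ((finRotate (l + e)).viaFintypeEmbedding (trk hl))

theorem dlt_inl (hl : l + 1 ≤ p) (b : Bool) : dlt (e := e) hl (Sum.inl b) = Sum.inl b := rfl

theorem dlt_fix (hl : l + 1 ≤ p) {a : Fin (p + e)} (ha : a ∉ Set.range (trk hl)) :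
    dlt hl (Sum.inr a) = Sum.inr a := by
  show Sum.inr _ = Sum.inr _
  rw [viaFintypeEmbedding_apply_notMem_range _ _ ha]

theorem finRotate_val {m : ℕ} (i : Fin m) : (finRotate m i).val = (i.val + 1) % m := by
  obtain ⟨k, rfl⟩ : ∃ k, m = k + 1 := ⟨m - 1, by have := i.isLt; omega⟩
  rw [finRotate_succ_apply, Fin.val_add, Fin.val_one', Nat.add_mod_mod]

theorem dlt_trk (hl : l + 1 ≤ p) (i : Fin (l + e)) :
    dlt hl (Sum.inr (trk hl i)) =
      Sum.inr (trk hl ⟨(i.val + 1) % (l + e), Nat.mod_lt _ i.pos⟩) := by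
  show Sum.inr _ = Sum.inr _
  rw [viaFintypeEmbedding_apply_image, show finRotate (l + e) i = ⟨(i.val + 1) % (l + e), Nat.mod_lt _ i.pos⟩
    from Fin.ext (finRotate_val i)]

theorem dlt_pow_trk (hl : l + 1 ≤ p) (k : ℕ) (i : Fin (l + e)) :
    (dlt hl ^ k : Perm (Gam p e)) (Sum.inr (trk hl i)) =
      Sum.inr (trk hl ⟨(i.val + k) % (l + e), Nat.mod_lt _ i.pos⟩) := by
  induction k with
  | zero => simp [Nat.mod_eq_of_lt i.isLt]
  | succ k ih =>
    rw [pow_succ', Perm.mul_apply, ih, dlt_trk]
    simp only [Nat.mod_add_mod, Nat.add_assoc]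

theorem dlt_pow_fix (hl : l + 1 ≤ p) (k : ℕ) {a : Fin (p + e)} (ha : a ∉ Set.range (trk hl)) :
    (dlt hl ^ k : Perm (Gam p e)) (Sum.inr a) = Sum.inr a := by
  induction k with
  | zero => simp
  | succ k ih => rw [pow_succ', Perm.mul_apply, ih, dlt_fix hl ha]

theorem dlt_pow_card (hl : l + 1 ≤ p) : (dlt hl : Perm (Gam p e)) ^ (l + e) = 1 := by
  refine Equiv.ext fun y => ?_
  rcases y with b | a
  · have : ∀ k, (dlt hl ^ k : Perm (Gam p e)) (Sum.inl b) = Sum.inl b := by
      intro k
      induction k with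
      | zero => simp
      | succ k ih => rw [pow_succ', Perm.mul_apply, ih, dlt_inl]
    simp [this]
  · by_cases ha : a ∈ Set.range (trk (e := e) hl)
    · obtain ⟨i, rfl⟩ := ha
      rw [dlt_pow_trk]
      simp [Nat.mod_eq_of_lt i.isLt]
    · simp [dlt_pow_fix hl _ ha]

theorem dlt_sign (hl : l + 1 ≤ p) (h : 1 ≤ l + e) :
    Perm.sign (dlt hl : Perm (Gam p e)) = (-1) ^ (l + e - 1) := by
  rw [dlt, Equiv.Perm.sign_sumCongr, Equiv.Perm.sign_refl, one_mul, viaFintypeEmbedding_sign,
    sign_finRotate]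

/-- the window without its point `l`, and its translate by the cycle -/
def sub1 (hl : l + 1 ≤ p) : Bool ⊕ Fin (p - 1) ↪ Pts p :=
  ⟨Sum.map id fun j => ((if j.val < l then j.val else j.val + 1 : ℕ) : ZMod p),
    Function.Injective.sumMap Function.injective_id fun i j h => by
      have h' := congrArg ZMod.val h
      have := i.isLt
      have := j.isLt
      rw [ZMod.val_natCast, ZMod.val_natCast, Nat.mod_eq_of_lt (by split_ifs <;> omega),
        Nat.mod_eq_of_lt (by split_ifs <;> omega)] at h'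
      apply Fin.ext
      split_ifs at h' <;> omega⟩

/-- the translate -/
def sub2 (hl : l + 1 ≤ p) : Bool ⊕ Fin (p - 1) ↪ Pts p :=
  ⟨Sum.map id fun j => ((if j.val = 0 then 0 else j.val + 1 : ℕ) : ZMod p),
    Function.Injective.sumMap Function.injective_id fun i j h => by
      have h' := congrArg ZMod.val h
      have := i.isLt
      have := j.isLt
      rw [ZMod.val_natCast, ZMod.val_natCast, Nat.mod_eq_of_lt (by split_ifs <;> omega),
        Nat.mod_eq_of_lt (by split_ifs <;> omega)] at h'
      apply Fin.ext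
      split_ifs at h' <;> omega⟩

theorem sub1_inr (hl : l + 1 ≤ p) (j : Fin (p - 1)) :
    sub1 hl (Sum.inr j) = Sum.inr ((if j.val < l then j.val else j.val + 1 : ℕ) : ZMod p) := rfl

theorem sub2_inr (hl : l + 1 ≤ p) (j : Fin (p - 1)) :
    sub2 hl (Sum.inr j) = Sum.inr ((if j.val = 0 then 0 else j.val + 1 : ℕ) : ZMod p) := rfl

theorem dlt_win_sub (hl : l + 1 ≤ p) (hl1 : 1 ≤ l) (y : Bool ⊕ Fin (p - 1)) :
    dlt hl (win p e (sub1 hl y)) = win p e (sub2 hl y) := by
  rcases y with b | j
  · rfl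
  have hj := j.isLt
  have hv1 : ((if j.val < l then j.val else j.val + 1 : ℕ) : ZMod p).val =
      if j.val < l then j.val else j.val + 1 := by
    rw [ZMod.val_natCast, Nat.mod_eq_of_lt]
    split_ifs <;> omega
  have hv2 : ((if j.val = 0 then 0 else j.val + 1 : ℕ) : ZMod p).val =
      if j.val = 0 then 0 else j.val + 1 := by
    rw [ZMod.val_natCast, Nat.mod_eq_of_lt]
    split_ifs <;> omega
  rw [sub1_inr, sub2_inr, win_inr, win_inr]
  simp only [hv1, hv2]
  by_cases hin : 1 ≤ j.val ∧ j.val < l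
  · have e1 : (⟨if j.val < l then j.val else j.val + 1, by split_ifs <;> omega⟩ : Fin (p + e)) =
        trk hl ⟨j.val - 1, by omega⟩ := by
      apply Fin.ext
      rw [trk_val]
      simp only
      split_ifs <;> omega
    rw [e1, dlt_trk]
    congr 1
    apply Fin.ext
    rw [trk_val]
    simp only
    rw [Nat.mod_eq_of_lt (show j.val - 1 + 1 < l + e by omega)]
    split_ifs <;> omega
  · rw [dlt_fix]
    · congr 1
      apply Fin.ext
      simp only
      split_ifs <;> omega
    · rintro ⟨i, hi⟩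
      have := congrArg Fin.val hi
      rw [trk_val] at this
      simp only at this
      split_ifs at this <;> omega

/-- two generators of the smaller window -/
def rot' (hp : p ≠ 2) : alternatingGroup (Bool ⊕ Fin (p - 1)) :=
  ⟨Equiv.sumCongr (swap false true) (finRotate (p - 1)), by
    have hpp : p.Prime := Fact.out
    obtain ⟨k, hk⟩ := hpp.odd_of_ne_two hp
    have := hpp.two_le
    rw [mem_alternatingGroup, Equiv.Perm.sign_sumCongr, sign_swap (by decide), sign_finRotate,
      ← pow_succ', show p - 1 - 1 + 1 = 2 * k by omega, pow_mul]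
    simp⟩

/-- the three-cycle of the smaller window -/
def three' (hp1 : 0 < p - 1) : alternatingGroup (Bool ⊕ Fin (p - 1)) :=
  cyc (Sum.inl false) (Sum.inl true) (Sum.inr ⟨0, hp1⟩)

theorem closure_small (hp : p ≠ 2) (hp1 : 0 < p - 1) :
    Subgroup.closure ({three' hp1, rot' hp} : Set (alternatingGroup (Bool ⊕ Fin (p - 1)))) = ⊤ := by
  have hft : (Sum.inl false : Bool ⊕ Fin (p - 1)) ≠ Sum.inl true := by simp
  set K := Subgroup.closure ({three' hp1, rot' hp} : Set (alternatingGroup (Bool ⊕ Fin (p - 1))))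
  have hall : ∀ k (hk : k < p - 1), cyc (Sum.inl false) (Sum.inl true) (Sum.inr ⟨k, hk⟩) ∈ K := by
    intro k
    induction k with
    | zero => exact fun _ => Subgroup.subset_closure (Set.mem_insert _ _)
    | succ k ih =>
      intro hk
      have hr : rot' hp ∈ K := Subgroup.subset_closure (Set.mem_insert_of_mem _ rfl)
      have h1 := K.mul_mem (K.mul_mem hr (ih (by omega))) (K.inv_mem hr)
      rw [cyc_conj _ hft Sum.inl_ne_inr] at h1
      have e0 : (rot' hp : Perm (Bool ⊕ Fin (p - 1))) (Sum.inl false) = Sum.inl true := by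
        simp [rot']
      have e1 : (rot' hp : Perm (Bool ⊕ Fin (p - 1))) (Sum.inl true) = Sum.inl false := by
        simp [rot']
      have e2 : (rot' hp : Perm (Bool ⊕ Fin (p - 1))) (Sum.inr ⟨k, by omega⟩) = Sum.inr ⟨k + 1, hk⟩ := by
        show Sum.inr _ = Sum.inr _
        congr 1
        apply Fin.ext
        rw [finRotate_val]
        exact Nat.mod_eq_of_lt hk
      rw [e0, e1, e2, ← cyc_inv hft Sum.inl_ne_inr Sum.inl_ne_inr] at h1
      have := K.inv_mem h1
      rwa [inv_inv] at this
  rw [eq_top_iff, ← closure_cyc hft, Subgroup.closure_le]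
  rintro _ ⟨i, h1, h2, rfl⟩
  rcases i with (_ | _) | i
  · exact absurd rfl h1
  · exact absurd rfl h2
  · exact hall i.val i.isLt

theorem closure_ζ : Subgroup.closure (Set.range (ζ p e)) = ⊤ := by
  rw [eq_top_iff, ← closure_cyc (show (Sum.inl false : Gam p e) ≠ Sum.inl true by simp)]
  refine Subgroup.closure_mono ?_
  rintro _ ⟨i, h1, h2, rfl⟩
  rcases i with (_ | _) | i
  · exact absurd rfl h1
  · exact absurd rfl h2
  · exact ⟨i, rfl⟩

theorem dlt_zero (hl : l + 1 ≤ p) :
    dlt hl (win p e (Sum.inr 0)) = win p e (Sum.inr (0 : ZMod p)) := by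
  rw [win_inr]
  refine dlt_fix hl ?_
  rintro ⟨i, hi⟩
  have := congrArg Fin.val hi
  rw [trk_val] at this
  simp at this
  split_ifs at this <;> omega

/-- Six relations on two generators, five if the power of the further element is trivial. -/
theorem hasPresN_main' (hp : p ≠ 2) (hl : l + 1 ≤ p) (hl1 : 1 ≤ l) (he : e < l)
    (h3 : ¬ 3 ∣ l + e) (T : Tgt (Gam p e) (dlt hl)) (b' : Bool)
    (hb : b' = false → T.q = l + e ∧ T.dq = 1) : HasPresN T.B 2 (5 + if b' then 1 else 0) := by
  classical
  have hpp : p.Prime := Fact.out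
  have hp1 : 0 < p - 1 := by have := hpp.two_le; omega
  obtain ⟨a, b, hab⟩ : ∃ a b : ℕ, (l + e) * a + 3 * b = 3 * (l + e) + 1 := by
    rcases (show (l + e) % 3 = 1 ∨ (l + e) % 3 = 2 by omega) with h | h
    · exact ⟨1, (2 * (l + e) + 1) / 3, by omega⟩
    · exact ⟨2, (l + e + 1) / 3, by omega⟩
  set L := l + e with hL
  obtain ⟨R, hR, hP⟩ := isPres_base p hp
  have hft : (Sum.inl false : Pts p) ≠ Sum.inl true := by simp
  have hfti : ∀ i : ZMod p, (Sum.inl false : Pts p) ≠ Sum.inr i := fun i => Sum.inl_ne_inr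
  have hFt : (Sum.inl false : Gam p e) ≠ Sum.inl true := by simp
  have hFi : ∀ i : Fin (p + e), (Sum.inl false : Gam p e) ≠ Sum.inr i := fun i => Sum.inl_ne_inr
  have hTi : ∀ i : Fin (p + e), (Sum.inl true : Gam p e) ≠ Sum.inr i := fun i => Sum.inl_ne_inr
  choose W1 hW1 using exists_word hP.gen
  let C : FreeGroup (Fin 2) := FreeGroup.of 0
  let Wg : FreeGroup (Fin 2) := FreeGroup.of 1
  let D : FreeGroup (Fin 2) := Wg ^ 3
  let U : alternatingGroup (Pts p) → FreeGroup (Fin 2) := fun y =>
    FreeGroup.lift ![C, Wg ^ L] (W1 y)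
  let S : Fin (p + e) → FreeGroup (Fin 2) := fun a =>
    if a.val < p then U (zc p (a.val : ZMod p))
    else D ^ (a.val - p + 1) * U (zc p (l : ZMod p)) * (D ^ (a.val - p + 1))⁻¹
  let r1 := altEmb (sub1 hl) (rot' hp)
  let r2 := altEmb (sub2 hl) (rot' hp)
  obtain ⟨Wq, hWq⟩ := exists_word (closure_ζ (p := p) (e := e)) T.dq
  let R' : List (FreeGroup (Fin 2)) := R.map (FreeGroup.lift ![C, Wg ^ L]) ++
    (D * U r1 * D⁻¹ * (U r2)⁻¹) :: (if b' then [D ^ T.q * (FreeGroup.lift S Wq)⁻¹] else [])
  let jm := T.ι.comp (altEmb (win p e))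
  set xB := jm (zc p 0) with hxB
  let wB := xB ^ a * T.dB ^ b
  let f : Fin 2 → T.B := ![jm (shift p hp), wB]
  have hxd : Commute T.dB xB := by
    rw [commute_iff_eq, ← mul_inv_eq_iff_eq_mul, hxB]
    show T.dB * T.ι (altEmb (win p e) (zc p 0)) * T.dB⁻¹ = _
    rw [T.conj, altEmb_cyc _ hft (hfti 0), cj_cyc _ (by simp [win_inl]) (by simp [win_inl, win_inr]),
      dlt_zero hl, win_inl, win_inl, dlt_inl, dlt_inl]
    show _ = T.ι (altEmb (win p e) (zc p 0))
    rw [altEmb_cyc _ hft (hfti 0), win_inl, win_inl]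
  have hx3 : xB ^ 3 = 1 := by
    rw [hxB, ← map_pow, cyc_cube hft (hfti 0) Sum.inl_ne_inr, map_one]
  have hdL : T.dB ^ L = 1 := T.dB_pow L (dlt_pow_card hl)
  have hwL : wB ^ L = xB := by
    show (xB ^ a * T.dB ^ b) ^ L = xB
    rw [(hxd.symm.pow_pow a b).mul_pow, ← pow_mul, ← pow_mul, mul_comm b L, pow_mul _ L b, hdL, one_pow,
      mul_one]
    calc xB ^ (a * L) = xB ^ (a * L) * xB ^ (3 * b) := by rw [pow_mul xB 3, hx3, one_pow, mul_one]
      _ = xB ^ (3 * L + 1) := by rw [← pow_add, mul_comm a L, hab]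
      _ = xB := by rw [pow_add, pow_mul, hx3, one_pow, one_mul, pow_one]
  have hw3 : wB ^ 3 = T.dB := by
    show (xB ^ a * T.dB ^ b) ^ 3 = T.dB
    rw [(hxd.symm.pow_pow a b).mul_pow, ← pow_mul, ← pow_mul, mul_comm a 3, pow_mul _ 3 a, hx3, one_pow,
      one_mul]
    calc T.dB ^ (b * 3) = T.dB ^ (L * a) * T.dB ^ (b * 3) := by rw [pow_mul _ L, hdL, one_pow, one_mul]
      _ = T.dB ^ (3 * L + 1) := by rw [← pow_add, mul_comm b 3, hab]
      _ = T.dB := by rw [mul_comm 3 L, pow_add, pow_mul, hdL, one_pow, one_mul, pow_one]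
  have hfC : FreeGroup.lift f C = jm (shift p hp) := FreeGroup.lift_apply_of
  have hfW : FreeGroup.lift f Wg = wB := FreeGroup.lift_apply_of
  have hfD : FreeGroup.lift f D = T.dB := by simp only [D, map_pow, hfW, hw3]
  have hsubst : (fun i => FreeGroup.lift f (![C, Wg ^ L] i)) = fun i => jm (![shift p hp, zc p 0] i) := by
    funext i
    fin_cases i
    · exact hfC
    · show FreeGroup.lift f (Wg ^ L) = xB
      rw [map_pow, hfW, hwL]
  have hfU : ∀ y, FreeGroup.lift f (U y) = jm y := fun y => by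
    simp only [U]
    rw [lift_lift, hsubst, ← lift_comp, hW1]
  have hconjd : ∀ (k : ℕ) (y : alternatingGroup (Gam p e)),
      T.dB ^ k * T.ι y * (T.dB ^ k)⁻¹ = T.ι (cj (dlt hl ^ k) y) := by
    intro k
    induction k with
    | zero => intro y; simp [cj_one]
    | succ k ih =>
      intro y
      rw [pow_succ' (dlt hl), cj_mul, ← T.conj, ← ih, pow_succ' T.dB]
      group
  have hfS : (fun a => FreeGroup.lift f (S a)) = fun a => T.ι (ζ p e a) := by
    funext i
    simp only [S]
    split_ifs with hi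
    · rw [hfU]
      show T.ι (altEmb (win p e) (zc p _)) = _
      rw [altEmb_cyc _ hft (hfti _), win_inl, win_inl, win_inr]
      congr 2
      apply congrArg Sum.inr
      apply Fin.ext
      show (i.val : ZMod p).val = i.val
      rw [ZMod.val_natCast, Nat.mod_eq_of_lt hi]
    · rw [map_mul, map_mul, map_inv, map_pow, hfU, hfD]
      show _ * T.ι (altEmb (win p e) (zc p _)) * _ = _
      rw [altEmb_cyc _ hft (hfti _), hconjd, cj_cyc _ (by simp [win_inl]) (by simp [win_inl, win_inr])]
      have hinl : ∀ k : ℕ, ∀ c, (dlt hl ^ k : Perm (Gam p e)) (Sum.inl c) = Sum.inl c := by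
        intro k c
        induction k with
        | zero => simp
        | succ k ih => rw [pow_succ', Perm.mul_apply, ih, dlt_inl]
      rw [win_inl, win_inl, hinl, hinl, win_inr]
      congr 2
      have e1 : (⟨((l : ℕ) : ZMod p).val, lt_of_lt_of_le (ZMod.val_lt _) (Nat.le_add_right _ _)⟩ :
          Fin (p + e)) = trk hl ⟨l - 1, by omega⟩ := by
        apply Fin.ext
        rw [trk_val]
        simp only
        rw [ZMod.val_natCast, Nat.mod_eq_of_lt (by omega), if_pos (by omega)]
        omega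
      rw [e1, dlt_pow_trk]
      apply congrArg Sum.inr
      apply Fin.ext
      rw [trk_val]
      simp only
      have := i.isLt
      rw [Nat.mod_eq_of_lt (show l - 1 + (i.val - p + 1) < l + e by omega), if_neg (by omega)]
      omega
  have hsub : ∀ y, cj (dlt hl) (altEmb (win p e) (altEmb (sub1 hl) y)) =
      altEmb (win p e) (altEmb (sub2 hl) y) := by
    intro y
    refine DFunLike.congr_fun (f := ((cj (dlt hl)).comp (altEmb (win p e))).comp (altEmb (sub1 hl)))
      (g := (altEmb (win p e)).comp (altEmb (sub2 hl))) ?_ y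
    refine hom_ext_cyc (a := (Sum.inl false : Bool ⊕ Fin (p - 1))) (b := Sum.inl true) (by simp)
      fun i h1 h2 => ?_
    simp only [MonoidHom.comp_apply]
    rw [altEmb_cyc _ (by simp) h1.symm, altEmb_cyc _ ((sub1 hl).injective.ne (by simp))
      ((sub1 hl).injective.ne h1.symm), cj_cyc _ ((win p e).injective.ne ((sub1 hl).injective.ne (by simp)))
      ((win p e).injective.ne ((sub1 hl).injective.ne h1.symm)),
      altEmb_cyc _ (by simp) h1.symm, altEmb_cyc _ ((sub2 hl).injective.ne (by simp))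
      ((sub2 hl).injective.ne h1.symm), dlt_win_sub hl hl1, dlt_win_sub hl hl1, dlt_win_sub hl hl1]
  refine ⟨R', f, ?_, fun r hr => ?_, ?_, ?_⟩
  · simp only [R', List.length_append, List.length_map, List.length_cons]
    cases b' <;> simp <;> omega
  · replace hr : r ∈ R.map (FreeGroup.lift ![C, Wg ^ L]) ++
        [D * U r1 * D⁻¹ * (U r2)⁻¹, D ^ T.q * (FreeGroup.lift S Wq)⁻¹] := by
      cases b' <;>
        simp only [R', List.mem_append, List.mem_cons, if_true, Bool.false_eq_true, if_false,
          List.not_mem_nil, or_false] at hr ⊢ <;> tauto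
    simp only [List.mem_append, List.mem_map, List.mem_cons, List.not_mem_nil, or_false] at hr
    rcases hr with ⟨s, hs, rfl⟩ | rfl | rfl
    · rw [lift_lift, hsubst, ← lift_comp, hP.rel s hs, map_one]
    · rw [map_mul, map_mul, map_mul, map_inv, map_inv, hfD, hfU, hfU, mul_inv_eq_one]
      show T.dB * T.ι _ * T.dB⁻¹ = T.ι _
      rw [T.conj, hsub]
    · rw [map_mul, map_inv, map_pow, lift_lift, hfS, ← lift_comp, hWq, hfD, T.dB_q, mul_inv_cancel]
  · refine T.gen _ (fun y => ?_) ?_
    · have hy : y ∈ Subgroup.closure (Set.range (ζ p e)) := by rw [closure_ζ]; trivial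
      induction hy using Subgroup.closure_induction with
      | mem y hy =>
        obtain ⟨i, rfl⟩ := hy
        rw [← congrFun hfS i, ← FreeGroup.range_lift_eq_closure]
        exact ⟨_, rfl⟩
      | one => rw [map_one]; exact Subgroup.one_mem _
      | mul x y _ _ hx hy => rw [map_mul]; exact Subgroup.mul_mem _ hx hy
      | inv x _ hx => rw [map_inv]; exact Subgroup.inv_mem _ hx
    · rw [← hfD, ← FreeGroup.range_lift_eq_closure]
      exact ⟨_, rfl⟩
  intro G _ f' hf'
  set c := f' 0
  set w := f' 1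
  have hC : FreeGroup.lift f' C = c := FreeGroup.lift_apply_of
  have hW : FreeGroup.lift f' Wg = w := FreeGroup.lift_apply_of
  have hsub' : (fun i => FreeGroup.lift f' (![C, Wg ^ L] i)) = ![c, w ^ L] := by
    funext i
    fin_cases i
    · exact hC
    · show FreeGroup.lift f' (Wg ^ L) = w ^ L
      rw [map_pow, hW]
  obtain ⟨φ, hφ⟩ := hP.univ G ![c, w ^ L] fun s hs => by
    rw [← hsub', ← lift_lift]
    exact hf' _ (List.mem_append.2 (Or.inl (List.mem_map.2 ⟨s, hs, rfl⟩)))
  have hφx : φ (zc p 0) = w ^ L := hφ 1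
  have hφc : φ (shift p hp) = c := hφ 0
  have hU : ∀ y, FreeGroup.lift f' (U y) = φ y := fun y => by
    simp only [U]
    rw [lift_lift, hsub', show ![c, w ^ L] = fun i => φ (![shift p hp, zc p 0] i) from (funext hφ).symm,
      ← lift_comp, hW1]
  set δ := w ^ 3 with hδ
  have hD : FreeGroup.lift f' D = δ := by simp only [D, map_pow, hW, hδ]
  have hw3L : w ^ (3 * L) = 1 := by
    rw [mul_comm, pow_mul, ← hφx, ← map_pow, cyc_cube hft (hfti 0) Sum.inl_ne_inr, map_one]
  have hδL : δ ^ L = 1 := by rw [hδ, ← pow_mul, hw3L]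
  have hδmod : ∀ k, δ ^ k = δ ^ (k % L) := fun k => by
    conv_lhs => rw [← Nat.mod_add_div k L, pow_add, pow_mul, hδL, one_pow, mul_one]
  have hδx : δ * φ (zc p 0) * δ⁻¹ = φ (zc p 0) := by
    rw [hφx, hδ, ← pow_add, add_comm, pow_add]; group
  have hcompat : ∀ y, δ * φ (altEmb (sub1 hl) y) * δ⁻¹ = φ (altEmb (sub2 hl) y) := by
    intro y
    have hy : y ∈ Subgroup.closure ({three' hp1, rot' hp} : Set _) := by rw [closure_small hp hp1]; trivial
    induction hy using Subgroup.closure_induction with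
    | mem y hy =>
      rcases hy with rfl | rfl
      · rw [three', altEmb_cyc _ (by simp) Sum.inl_ne_inr, altEmb_cyc _ (by simp) Sum.inl_ne_inr,
          sub1_inr, sub2_inr]
        simp only [if_pos (show (⟨0, hp1⟩ : Fin (p - 1)).val < l by simp; omega), if_true, Nat.cast_zero]
        exact hδx
      · have := hf' (D * U r1 * D⁻¹ * (U r2)⁻¹) (List.mem_append.2 (Or.inr (List.mem_cons_self ..)))
        rwa [map_mul, map_mul, map_mul, map_inv, map_inv, hD, hU, hU, mul_inv_eq_one] at this
    | one => simp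
    | mul x y _ _ hx hy => rw [map_mul, map_mul, map_mul, map_mul, ← hx, ← hy]; group
    | inv x _ hx => rw [map_inv, map_inv, map_inv, map_inv, ← hx]; group
  have hstep : ∀ j : Fin (p - 1),
      δ * φ (zc p ((if j.val < l then j.val else j.val + 1 : ℕ) : ZMod p)) * δ⁻¹ =
        φ (zc p ((if j.val = 0 then 0 else j.val + 1 : ℕ) : ZMod p)) := by
    intro j
    have := hcompat (cyc (Sum.inl false) (Sum.inl true) (Sum.inr j))
    rwa [altEmb_cyc _ (by simp) Sum.inl_ne_inr, altEmb_cyc _ (by simp) Sum.inl_ne_inr, sub1_inr,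
      sub2_inr] at this
  obtain ⟨z, hzlt, hzge⟩ : ∃ z : Fin (p + e) → G,
      (∀ i, i.val < p → z i = φ (zc p (i.val : ZMod p))) ∧
      (∀ i, ¬ i.val < p → z i = δ ^ (i.val - p + 1) * φ (zc p (l : ZMod p)) * (δ ^ (i.val - p + 1))⁻¹) :=
    ⟨fun i => if i.val < p then φ (zc p (i.val : ZMod p))
      else δ ^ (i.val - p + 1) * φ (zc p (l : ZMod p)) * (δ ^ (i.val - p + 1))⁻¹,
      fun i h => if_pos h, fun i h => if_neg h⟩
  have hS' : (fun i => FreeGroup.lift f' (S i)) = z := by
    funext i
    simp only [S]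
    split_ifs with hi
    · rw [hU, hzlt i hi]
    · rw [map_mul, map_mul, map_inv, map_pow, hU, hD, hzge i hi]
  have hseg : ∀ i, i < l → δ ^ i * φ (zc p 1) * (δ ^ i)⁻¹ = φ (zc p ((i + 1 : ℕ) : ZMod p)) := by
    intro i
    induction i with
    | zero => intro _; simp
    | succ i ih =>
      intro hi
      have h1 := hstep ⟨i + 1, by omega⟩
      simp only [if_pos hi, if_neg (Nat.succ_ne_zero i)] at h1
      rw [← h1, ← ih (by omega), pow_succ']
      group
  have htrk : ∀ i : Fin (l + e), z (trk hl i) = δ ^ i.val * φ (zc p 1) * (δ ^ i.val)⁻¹ := by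
    intro i
    have hi := i.isLt
    by_cases h : i.val < l
    · rw [hseg _ h, hzlt _ (by rw [trk_val, if_pos h]; omega)]
      congr 3
      rw [trk_val, if_pos h]
    · rw [hzge _ (by rw [trk_val, if_neg h]; omega), trk_val, if_neg h]
      have := hseg (l - 1) (by omega)
      rw [show l - 1 + 1 = l by omega] at this
      rw [← this]
      conv_rhs => rw [show i.val = (p + (i.val - l) - p + 1) + (l - 1) by omega, pow_add]
      group
  have hkey : ∀ (k : ℕ) (i i' : Fin (p + e)), (dlt hl ^ k : Perm (Gam p e)) (Sum.inr i) = Sum.inr i' →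
      δ ^ k * z i * (δ ^ k)⁻¹ = z i' := by
    intro k i i' hik
    by_cases hi : i ∈ Set.range (trk (e := e) hl)
    · obtain ⟨j, rfl⟩ := hi
      rw [dlt_pow_trk] at hik
      rw [← Sum.inr_injective hik, htrk, htrk]
      show _ = δ ^ ((j.val + k) % L) * _ * (δ ^ ((j.val + k) % L))⁻¹
      rw [← hδmod, add_comm j.val k, pow_add]
      group
    · rw [dlt_pow_fix hl _ hi] at hik
      rw [← Sum.inr_injective hik]
      have hlt : i.val < p := by
        by_contra h
        apply hi
        refine ⟨⟨l + (i.val - p), by omega⟩, Fin.ext ?_⟩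
        rw [trk_val, if_neg (by simp)]
        simp only
        omega
      have h1 : δ * z i * δ⁻¹ = z i := by
        have hnot : i.val = 0 ∨ l < i.val := by
          by_contra h
          apply hi
          refine ⟨⟨i.val - 1, by omega⟩, Fin.ext ?_⟩
          rw [trk_val]
          simp only
          split_ifs <;> omega
        rw [hzlt i hlt]
        rcases hnot with h | h
        · have := hstep ⟨0, hp1⟩
          simp only [if_pos (show (0 : ℕ) < l by omega), if_true] at this
          rw [h]; exact this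
        · have := hstep ⟨i.val - 1, by omega⟩
          simp only [if_neg (show ¬ i.val - 1 < l by omega), if_neg (show i.val - 1 ≠ 0 by omega),
            show i.val - 1 + 1 = i.val by omega] at this
          exact this
      have hcm : Commute δ (z i) := mul_inv_eq_iff_eq_mul.1 h1
      rw [(hcm.pow_left k).eq, mul_inv_cancel_right]
  have hpow_inr : ∀ (k : ℕ) (i : Fin (p + e)), ∃ i', (dlt hl ^ k : Perm (Gam p e)) (Sum.inr i) = Sum.inr i' := by
    intro k i
    by_cases hi : i ∈ Set.range (trk (e := e) hl)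
    · obtain ⟨j, rfl⟩ := hi; exact ⟨_, dlt_pow_trk hl k j⟩
    · exact ⟨_, dlt_pow_fix hl k hi⟩
  have hpair : ∀ i j : Fin (p + e), i ≠ j → ∃ k : ℕ, ∃ i' j' : Fin (p + e), i'.val < p ∧ j'.val < p ∧
      (dlt hl ^ k : Perm (Gam p e)) (Sum.inr i) = Sum.inr i' ∧
      (dlt hl ^ k : Perm (Gam p e)) (Sum.inr j) = Sum.inr j' := by
    intro i j hij
    have hfixlt : ∀ i : Fin (p + e), i ∉ Set.range (trk (e := e) hl) → i.val < p := by
      intro i hi
      by_contra h
      apply hi
      refine ⟨⟨l + (i.val - p), by omega⟩, Fin.ext ?_⟩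
      rw [trk_val, if_neg (by simp)]
      simp only
      omega
    have hlt : ∀ (m : Fin (l + e)), m.val < l → (trk hl m).val < p := fun m hm => by
      rw [trk_val, if_pos hm]; omega
    by_cases hi : i ∈ Set.range (trk (e := e) hl) <;> by_cases hj : j ∈ Set.range (trk (e := e) hl)
    · obtain ⟨s, rfl⟩ := hi
      obtain ⟨t, rfl⟩ := hj
      have hs := s.isLt
      have ht := t.isLt
      have hst : s.val ≠ t.val := fun h => hij (by rw [Fin.ext h])
      obtain ⟨k, h1, h2⟩ : ∃ k, (s.val + k) % (l + e) < l ∧ (t.val + k) % (l + e) < l := by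
        have hz : ∀ x, (x + (l + e)) % (l + e) = x % (l + e) := fun x => Nat.add_mod_right _ _
        rcases Nat.lt_or_ge s.val t.val with hlt' | hge
        · by_cases hd : t.val - s.val < l
          · refine ⟨l + e - s.val, ?_, ?_⟩
            · rw [show s.val + (l + e - s.val) = l + e by omega, Nat.mod_self]; omega
            · rw [show t.val + (l + e - s.val) = (t.val - s.val) + (l + e) by omega, hz,
                Nat.mod_eq_of_lt (by omega)]
              exact hd
          · refine ⟨l + e - t.val, ?_, ?_⟩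
            · rw [Nat.mod_eq_of_lt (by omega)]; omega
            · rw [show t.val + (l + e - t.val) = l + e by omega, Nat.mod_self]; omega
        · by_cases hd : s.val - t.val < l
          · refine ⟨l + e - t.val, ?_, ?_⟩
            · rw [show s.val + (l + e - t.val) = (s.val - t.val) + (l + e) by omega, hz,
                Nat.mod_eq_of_lt (by omega)]
              exact hd
            · rw [show t.val + (l + e - t.val) = l + e by omega, Nat.mod_self]; omega
          · refine ⟨l + e - s.val, ?_, ?_⟩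
            · rw [show s.val + (l + e - s.val) = l + e by omega, Nat.mod_self]; omega
            · rw [Nat.mod_eq_of_lt (by omega)]; omega
      exact ⟨k, _, _, hlt _ h1, hlt _ h2, dlt_pow_trk hl k s, dlt_pow_trk hl k t⟩
    · obtain ⟨s, rfl⟩ := hi
      have hs := s.isLt
      refine ⟨l + e - s.val, _, j, hlt _ ?_, hfixlt j hj, dlt_pow_trk hl _ s, dlt_pow_fix hl _ hj⟩
      simp only
      rw [show s.val + (l + e - s.val) = l + e by omega, Nat.mod_self]; omega
    · obtain ⟨t, rfl⟩ := hj
      have ht := t.isLt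
      refine ⟨l + e - t.val, i, _, hfixlt i hi, hlt _ ?_, dlt_pow_fix hl _ hi, dlt_pow_trk hl _ t⟩
      simp only
      rw [show t.val + (l + e - t.val) = l + e by omega, Nat.mod_self]; omega
    · exact ⟨0, i, j, hfixlt i hi, hfixlt j hj, by simp, by simp⟩
  let z' : Gam p e → G := fun y => y.elim (fun _ => 1) z
  obtain ⟨Φ, hΦ⟩ := carmichael hFt z'
    (fun y h1 h2 => by
      rcases y with b' | i
      · exact one_pow 3
      show z i ^ 3 = 1
      by_cases hi : i.val < p
      · rw [hzlt i hi, ← map_pow, cyc_cube hft (hfti _) Sum.inl_ne_inr, map_one]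
      · rw [hzge i hi, conj_pow, ← map_pow, cyc_cube hft (hfti _) Sum.inl_ne_inr, map_one, mul_one,
          mul_inv_cancel])
    (fun y y' hy1 hy2 hy'1 hy'2 hne => by
      rcases y with (_ | _) | i
      · exact absurd rfl hy1
      · exact absurd rfl hy2
      rcases y' with (_ | _) | j
      · exact absurd rfl hy'1
      · exact absurd rfl hy'2
      show (z i * z j) ^ 2 = 1
      obtain ⟨k, i', j', hi', hj', e1, e2⟩ := hpair i j fun h => hne (congrArg Sum.inr h)
      have hij' : i' ≠ j' := fun h => hne ((dlt hl ^ k : Perm (Gam p e)).injective (by rw [e1, e2, h]))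
      have hsq : (z i' * z j') ^ 2 = 1 := by
        rw [hzlt i' hi', hzlt j' hj', ← map_mul, ← map_pow]
        rw [cyc_sq hft (hfti _) Sum.inl_ne_inr (hfti _) Sum.inl_ne_inr, map_one]
        intro h
        apply hij'
        apply Fin.ext
        have h' := congrArg ZMod.val (Sum.inr_injective h)
        rwa [ZMod.val_natCast, ZMod.val_natCast, Nat.mod_eq_of_lt hi', Nat.mod_eq_of_lt hj'] at h'
      rw [← hkey k i i' e1, ← hkey k j j' e2, show δ ^ k * z i * (δ ^ k)⁻¹ * (δ ^ k * z j * (δ ^ k)⁻¹) =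
        δ ^ k * (z i * z j) * (δ ^ k)⁻¹ by group, conj_pow, conj_eq_one_iff] at hsq
      exact hsq)
  have hΦz : ∀ i, Φ (ζ p e i) = z i := fun i => hΦ _ (hFi i).symm (hTi i).symm
  have hΦwin : Φ.comp (altEmb (win p e)) = φ := by
    refine hom_ext_cyc hft fun y h1 h2 => ?_
    rcases y with (_ | _) | i
    · exact absurd rfl h1
    · exact absurd rfl h2
    show Φ (altEmb (win p e) (zc p i)) = φ (zc p i)
    rw [altEmb_cyc _ hft (hfti i), win_inl, win_inl, win_inr]
    show Φ (ζ p e _) = _
    rw [hΦz, hzlt _ (ZMod.val_lt i), ZMod.natCast_zmod_val]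
  have hconj : ∀ y, δ * Φ y * δ⁻¹ = Φ (cj (dlt hl) y) := by
    intro y
    refine DFunLike.congr_fun (f := (MulAut.conj δ).toMonoidHom.comp Φ) (g := Φ.comp (cj (dlt hl))) ?_ y
    refine hom_ext_cyc hFt fun y h1 h2 => ?_
    rcases y with (_ | _) | i
    · exact absurd rfl h1
    · exact absurd rfl h2
    obtain ⟨i', hi'⟩ := hpow_inr 1 i
    show δ * Φ (ζ p e i) * δ⁻¹ = Φ (cj (dlt hl) (ζ p e i))
    rw [cj_cyc _ hFt (hFi i), dlt_inl, dlt_inl, show dlt hl (Sum.inr i) = Sum.inr i' by simpa using hi']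
    show _ = Φ (ζ p e i')
    rw [hΦz, hΦz, ← hkey 1 i i' hi', pow_one]
  have hq : δ ^ T.q = Φ T.dq := by
    by_cases hb' : b' = false
    · rw [(hb hb').1, (hb hb').2, map_one]; exact hδL
    have := hf' (D ^ T.q * (FreeGroup.lift S Wq)⁻¹)
      (List.mem_append.2 (Or.inr (List.mem_cons_of_mem _ (by
        rw [if_pos (by simpa using hb')]; exact List.mem_singleton.2 rfl))))
    rw [map_mul, map_inv, map_pow, lift_lift, hS', hD, mul_inv_eq_one] at this
    rw [this, ← hWq, lift_comp]
    exact congrArg (fun g => FreeGroup.lift g Wq) (funext hΦz).symm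
  obtain ⟨ψ, hψ1, hψ2⟩ := T.univ G Φ δ hconj hq
  refine ⟨ψ, fun i => ?_⟩
  fin_cases i
  · show ψ (T.ι (altEmb (win p e) (shift p hp))) = c
    rw [hψ1, ← MonoidHom.comp_apply, hΦwin, hφc]
  · show ψ (xB ^ a * T.dB ^ b) = w
    rw [map_mul, map_pow, map_pow, hψ2, show ψ xB = w ^ L from ?_, hδ, ← pow_mul, ← pow_mul, ← pow_add,
      hab, pow_add, hw3L, one_mul, pow_one]
    show ψ (T.ι (altEmb (win p e) (zc p 0))) = w ^ L
    rw [hψ1, ← MonoidHom.comp_apply, hΦwin, hφx]

/-- Six relations on two generators. -/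
theorem hasPresN_main (hp : p ≠ 2) (hl : l + 1 ≤ p) (hl1 : 1 ≤ l) (he : e < l)
    (h3 : ¬ 3 ∣ l + e) (T : Tgt (Gam p e) (dlt hl)) : HasPresN T.B 2 6 :=
  hasPresN_main' hp hl hl1 he h3 T true (fun h => absurd h (by decide))

end CfsgLib.AltPres
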