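import Cfsg.Agent.AltPres.Main

/-!
The small degrees: one rotation and one three-cycle.
-/

set_option autoImplicit false
set_option linter.style.haveILetI false
set_option linter.unusedSectionVars false

namespace CfsgLib.AltPres

open Equiv Equiv.Perm CfsgLib.BPres

variable (m : ℕ)

/-- the rotation, possibly exchanging the two special points -/
def smallD (sw : Bool) : Perm (Bool ⊕ Fin m) :=
  Equiv.sumCongr (if sw then swap false true else Equiv.refl Bool) (finRotate m)

variable {m}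

theorem smallD_inl (sw b : Bool) : smallD m sw (Sum.inl b) = Sum.inl (xor sw b) := by
  cases sw <;> cases b <;> simp [smallD]

theorem smallD_inr (sw : Bool) (i : Fin m) :
    smallD m sw (Sum.inr i) = Sum.inr ⟨(i.val + 1) % m, Nat.mod_lt _ i.pos⟩ := by
  show Sum.inr _ = Sum.inr _
  congr 1
  exact Fin.ext (finRotate_val i)

theorem smallD_pow_inr (sw : Bool) (k : ℕ) (i : Fin m) :
    (smallD m sw ^ k : Perm (Bool ⊕ Fin m)) (Sum.inr i) =
      Sum.inr ⟨(i.val + k) % m, Nat.mod_lt _ i.pos⟩ := by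
  induction k with
  | zero => simp [Nat.mod_eq_of_lt i.isLt]
  | succ k ih =>
    rw [pow_succ', Perm.mul_apply, ih, smallD_inr]
    simp only [Nat.mod_add_mod, Nat.add_assoc]

theorem smallD_pow_inl (sw : Bool) (k : ℕ) (b : Bool) :
    (smallD m sw ^ k : Perm (Bool ⊕ Fin m)) (Sum.inl b) = Sum.inl (xor (sw && decide (Odd k)) b) := by
  induction k with
  | zero => simp
  | succ k ih =>
    rw [pow_succ', Perm.mul_apply, ih, smallD_inl]
    congr 1
    cases sw <;> cases b <;> by_cases h : Odd k <;> simp [h, Nat.odd_add_one]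

theorem smallD_sign (sw : Bool) :
    Perm.sign (smallD m sw) = (if sw then -1 else 1) * (-1) ^ (m - 1) := by
  rw [smallD, Equiv.Perm.sign_sumCongr, sign_finRotate]
  cases sw <;> simp

/-- `m / 2 + 2` relations besides the cube of the three-cycle. -/
theorem isPres_small (hm : 1 ≤ m) (sw : Bool) (hsw : sw = true → Even m)
    (T : Tgt (Bool ⊕ Fin m) (smallD m sw)) :
    ∃ (R : List (FreeGroup (Fin 2))) (f : Fin 2 → T.B), R.length ≤ m / 2 + 2 ∧
      f 1 = T.ι (cyc (Sum.inl false) (Sum.inl true) (Sum.inr ⟨0, hm⟩)) ∧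
      IsPres (R ++ [FreeGroup.of 1 ^ 3]) f := by
  classical
  let x0 : alternatingGroup (Bool ⊕ Fin m) := cyc (Sum.inl false) (Sum.inl true) (Sum.inr ⟨0, hm⟩)
  let ζ : Fin m → alternatingGroup (Bool ⊕ Fin m) :=
    fun i => cyc (Sum.inl false) (Sum.inl true) (Sum.inr i)
  let E : ℕ → ℕ := fun k => if sw ∧ Odd k then 2 else 1
  have hft : (Sum.inl false : Bool ⊕ Fin m) ≠ Sum.inl true := by simp
  have hfi : ∀ i : Fin m, (Sum.inl false : Bool ⊕ Fin m) ≠ Sum.inr i := fun i => Sum.inl_ne_inr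
  have hti : ∀ i : Fin m, (Sum.inl true : Bool ⊕ Fin m) ≠ Sum.inr i := fun i => Sum.inl_ne_inr
  have hdm : smallD m sw ^ m = 1 := by
    refine Equiv.ext fun y => ?_
    rcases y with b | i
    · rw [smallD_pow_inl]
      cases sw
      · simp
      · simp [Nat.not_odd_iff_even.2 (hsw rfl)]
    · rw [smallD_pow_inr]
      simp [Nat.mod_eq_of_lt i.isLt]
  have hclo : Subgroup.closure (Set.range ζ) = ⊤ := by
    rw [eq_top_iff, ← closure_cyc hft]
    refine Subgroup.closure_mono ?_
    rintro _ ⟨i, h1, h2, rfl⟩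
    rcases i with (_ | _) | i
    · exact absurd rfl h1
    · exact absurd rfl h2
    · exact ⟨i, rfl⟩
  have hz3 : ∀ i, ζ i ^ 3 = 1 := fun i => cyc_cube hft (hfi i) (hti i)
  have hrot : ∀ (k : ℕ) (i : Fin m), cj (smallD m sw ^ k) (ζ i) =
      ζ ⟨(i.val + k) % m, Nat.mod_lt _ i.pos⟩ ^ E k := by
    intro k i
    rw [cj_cyc _ hft (hfi i), smallD_pow_inl, smallD_pow_inl, smallD_pow_inr]
    by_cases h : sw ∧ Odd k
    · have hE : (sw && decide (Odd k)) = true := by simp [h.1, h.2]
      simp only [E, if_pos h, hE]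
      show cyc (Sum.inl true) (Sum.inl false) _ = _
      have h3 := hz3 ⟨(i.val + k) % m, Nat.mod_lt _ i.pos⟩
      rw [pow_succ, mul_eq_one_iff_eq_inv] at h3
      rw [h3, cyc_inv hft (hfi _) (hti _)]
    · have hE : (sw && decide (Odd k)) = false := by
        cases sw <;> simp_all
      simp only [E, if_neg h, hE, pow_one]
      rfl
  let A : FreeGroup (Fin 2) := FreeGroup.of 0
  let X : FreeGroup (Fin 2) := FreeGroup.of 1
  let S : Fin m → FreeGroup (Fin 2) := fun k => (A ^ k.val * X * (A ^ k.val)⁻¹) ^ E k.val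
  obtain ⟨Wq, hWq⟩ := exists_word hclo T.dq
  let R : List (FreeGroup (Fin 2)) := A ^ m ::
    ((List.finRange (m / 2)).map fun j => (X * S ⟨j.val + 1, by omega⟩) ^ 2) ++
      [A ^ T.q * (FreeGroup.lift S Wq)⁻¹]
  let f : Fin 2 → T.B := ![T.dB, T.ι x0]
  have hfA : FreeGroup.lift f A = T.dB := FreeGroup.lift_apply_of
  have hfX : FreeGroup.lift f X = T.ι x0 := FreeGroup.lift_apply_of
  have hconjd : ∀ (k : ℕ) (y : alternatingGroup (Bool ⊕ Fin m)),
      T.dB ^ k * T.ι y * (T.dB ^ k)⁻¹ = T.ι (cj (smallD m sw ^ k) y) := by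
    intro k
    induction k with
    | zero => intro y; simp [cj_one]
    | succ k ih =>
      intro y
      rw [pow_succ' (smallD m sw), cj_mul, ← T.conj, ← ih, pow_succ' T.dB]
      group
  have hE2 : ∀ k, E k * E k ≡ 1 [MOD 3] := fun k => by
    simp only [E]; split_ifs <;> rfl
  have hpowE : ∀ {H : Type} [Group H] (y : H) (k : ℕ), y ^ 3 = 1 → (y ^ E k) ^ E k = y := by
    intro H _ y k hy
    rw [← pow_mul]
    simp only [E]
    split_ifs
    · rw [show 2 * 2 = 3 + 1 by rfl, pow_succ, hy, one_mul]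
    · rw [mul_one, pow_one]
  have hfS : (fun k => FreeGroup.lift f (S k)) = fun k => T.ι (ζ k) := by
    funext k
    simp only [S, map_pow, map_mul, map_inv, hfA, hfX]
    rw [hconjd, show x0 = ζ ⟨0, hm⟩ from rfl, hrot, ← map_pow, ← pow_mul]
    congr 1
    rw [show (⟨((⟨0, hm⟩ : Fin m).val + k.val) % m, Nat.mod_lt _ hm⟩ : Fin m) = k from
      Fin.ext (by simp [Nat.mod_eq_of_lt k.isLt]), pow_mul]
    simp only [E]
    split_ifs
    · rw [← pow_mul, show 2 * 2 = 3 + 1 by rfl, pow_succ, hz3, one_mul]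
    · rw [pow_one, pow_one]
  refine ⟨R, f, ?_, rfl, fun r hr => ?_, ?_, ?_⟩
  · simp only [R, List.length_append, List.length_cons, List.length_map, List.length_finRange,
      List.length_nil]
    omega
  · simp only [R, List.mem_append, List.mem_cons, List.mem_map, List.mem_finRange, true_and,
      List.not_mem_nil, or_false] at hr
    rcases hr with ((rfl | ⟨j, rfl⟩) | rfl) | rfl
    · rw [map_pow, hfA, T.dB_pow m hdm]
    · rw [map_pow, map_mul, hfX, congrFun hfS ⟨j.val + 1, _⟩, ← map_mul, ← map_pow,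
        show x0 = ζ ⟨0, hm⟩ from rfl]
      rw [cyc_sq hft (hfi _) (hti _) (hfi _) (hti _) (by simp [Fin.ext_iff]), map_one]
    · rw [map_mul, map_inv, map_pow, lift_lift, hfS, ← lift_comp, hWq, hfA, T.dB_q, mul_inv_cancel]
    · rw [map_pow, hfX, ← map_pow, show x0 = ζ ⟨0, hm⟩ from rfl, hz3, map_one]
  · refine T.gen _ (fun y => ?_) ?_
    · have hy : y ∈ Subgroup.closure (Set.range ζ) := by rw [hclo]; trivial
      induction hy using Subgroup.closure_induction with
      | mem y hy =>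
        obtain ⟨i, rfl⟩ := hy
        rw [← congrFun hfS i, ← FreeGroup.range_lift_eq_closure]
        exact ⟨_, rfl⟩
      | one => rw [map_one]; exact Subgroup.one_mem _
      | mul x y _ _ hx hy => rw [map_mul]; exact Subgroup.mul_mem _ hx hy
      | inv x _ hx => rw [map_inv]; exact Subgroup.inv_mem _ hx
    · rw [← hfA, ← FreeGroup.range_lift_eq_closure]
      exact ⟨_, rfl⟩
  intro G _ f' hf'
  set a := f' 0
  set x := f' 1
  have hA : FreeGroup.lift f' A = a := FreeGroup.lift_apply_of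
  have hX : FreeGroup.lift f' X = x := FreeGroup.lift_apply_of
  have ham : a ^ m = 1 := by
    have := hf' (A ^ m) (by simp [R])
    rwa [map_pow, hA] at this
  have hx3 : x ^ 3 = 1 := by
    have := hf' (X ^ 3) (by simp [R, X])
    rwa [map_pow, hX] at this
  obtain ⟨z, hz⟩ : ∃ z : Fin m → G, ∀ k, z k = (a ^ k.val * x * (a ^ k.val)⁻¹) ^ E k.val :=
    ⟨_, fun k => rfl⟩
  have hS' : (fun k => FreeGroup.lift f' (S k)) = z := by
    funext k
    simp only [S, map_pow, map_mul, map_inv, hA, hX]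
    exact (hz k).symm
  have hp3 : ∀ k, (a ^ k * x * (a ^ k)⁻¹) ^ 3 = 1 := fun k => by
    rw [conj_pow, hx3, mul_one, mul_inv_cancel]
  have hkey : ∀ (k : ℕ) (i : Fin m),
      a ^ k * z i * (a ^ k)⁻¹ = z ⟨(i.val + k) % m, Nat.mod_lt _ i.pos⟩ ^ E k := by
    intro k i
    have hP : ∀ j, a ^ j * x * (a ^ j)⁻¹ = a ^ (j % m) * x * (a ^ (j % m))⁻¹ := fun j => by
      conv_lhs => rw [← Nat.mod_add_div j m, pow_add, pow_mul, ham, one_pow, mul_one]
    rw [hz, hz, ← conj_pow, show a ^ k * (a ^ i.val * x * (a ^ i.val)⁻¹) * (a ^ k)⁻¹ =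
      a ^ (k + i.val) * x * (a ^ (k + i.val))⁻¹ by rw [pow_add]; group, hP, add_comm k, ← pow_mul]
    refine pow_eq_pow_of_modEq ?_ (hp3 _)
    simp only [E]
    by_cases h : sw = true
    · simp only [h, true_and]
      have hev := hsw h
      have hpar : Odd ((i.val + k) % m) ↔ Odd (i.val + k) := by
        obtain ⟨u, hu⟩ := hev
        rw [Nat.odd_iff, Nat.odd_iff, Nat.mod_mod_of_dvd _ ⟨u, by omega⟩]
      by_cases h1 : Odd i.val <;> by_cases h2 : Odd k <;>
        simp [h1, h2, hpar, Nat.odd_add, ← Nat.not_odd_iff_even] <;> rfl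
    · simp [h]; rfl
  have hlow : ∀ j : Fin m, j.val ≠ 0 → j.val ≤ m / 2 → (x * z j) ^ 2 = 1 := by
    intro j hj hj2
    have := hf' ((X * S j) ^ 2) (by
      simp only [R, List.mem_append, List.mem_cons, List.mem_map, List.mem_finRange, true_and]
      refine Or.inl (Or.inl (Or.inr ⟨⟨j.val - 1, by omega⟩, ?_⟩))
      congr 3
      exact Fin.ext (by simp only; omega))
    rwa [map_pow, map_mul, hX, congrFun hS' j] at this
  have hz0 : z ⟨0, hm⟩ = x := by rw [hz]; simp [E]
  let z' : Bool ⊕ Fin m → G := fun y => y.elim (fun _ => 1) z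
  have hswap2 : ∀ u v : G, (u * v) ^ 2 = 1 → (v * u) ^ 2 = 1 := fun u v h => by
    rw [show v * u = u⁻¹ * (u * v) * (u⁻¹)⁻¹ by group, conj_pow, h, mul_one, mul_inv_cancel]
  have hz3' : ∀ k, z k ^ 3 = 1 := fun k => by rw [hz, ← pow_mul, mul_comm, pow_mul, hp3, one_pow]
  have hsq0 : ∀ j : Fin m, j.val ≠ 0 → (x * z j) ^ 2 = 1 := by
    intro j hj
    by_cases hj2 : j.val ≤ m / 2
    · exact hlow j hj hj2
    have hjm := j.isLt
    have hb : (x * z ⟨m - j.val, by omega⟩) ^ 2 = 1 := hlow _ (by simp only; omega) (by simp only; omega)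
    have h1 := hkey j.val ⟨m - j.val, by omega⟩
    have h2 := hkey j.val ⟨0, hm⟩
    rw [show (⟨((⟨m - j.val, by omega⟩ : Fin m).val + j.val) % m, Nat.mod_lt _ hm⟩ : Fin m) = ⟨0, hm⟩
      from Fin.ext (by simp only; rw [show m - j.val + j.val = m by omega, Nat.mod_self]), hz0] at h1
    rw [show (⟨((⟨0, hm⟩ : Fin m).val + j.val) % m, Nat.mod_lt _ hm⟩ : Fin m) = j
      from Fin.ext (by simp only [zero_add]; exact Nat.mod_eq_of_lt hjm), hz0] at h2
    have h0 : (z j ^ E j.val * x ^ E j.val) ^ 2 = 1 := by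
      rw [← h1, ← h2, show a ^ j.val * x * (a ^ j.val)⁻¹ *
        (a ^ j.val * z ⟨m - j.val, by omega⟩ * (a ^ j.val)⁻¹) =
        a ^ j.val * (x * z ⟨m - j.val, by omega⟩) * (a ^ j.val)⁻¹ by group, conj_pow, hb, mul_one,
        mul_inv_cancel]
    simp only [E] at h0
    split_ifs at h0
    · rwa [show x ^ 2 = x⁻¹ by rw [← mul_eq_one_iff_eq_inv, ← pow_succ]; exact hx3,
        show z j ^ 2 = (z j)⁻¹ by rw [← mul_eq_one_iff_eq_inv, ← pow_succ]; exact hz3' j,
        ← mul_inv_rev, inv_pow, inv_eq_one] at h0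
    · rw [pow_one, pow_one] at h0
      exact hswap2 _ _ h0
  obtain ⟨Φ, hΦ⟩ := carmichael hft z'
    (fun y h1 h2 => by
      rcases y with b' | i
      · exact one_pow 3
      · exact hz3' i)
    (fun y y' hy1 hy2 hy'1 hy'2 hne => by
      rcases y with (_ | _) | i
      · exact absurd rfl hy1
      · exact absurd rfl hy2
      rcases y' with (_ | _) | j
      · exact absurd rfl hy'1
      · exact absurd rfl hy'2
      show (z i * z j) ^ 2 = 1
      have hij : i.val ≠ j.val := fun h => hne (congrArg Sum.inr (Fin.ext h))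
      have hi := i.isLt
      have hj := j.isLt
      have h1 := hkey (m - i.val) i
      have h2 := hkey (m - i.val) j
      rw [show (⟨(i.val + (m - i.val)) % m, Nat.mod_lt _ i.pos⟩ : Fin m) = ⟨0, hm⟩ from
        Fin.ext (by simp only; rw [show i.val + (m - i.val) = m by omega, Nat.mod_self]), hz0] at h1
      set jj : Fin m := ⟨(j.val + (m - i.val)) % m, Nat.mod_lt _ j.pos⟩
      have hjj : jj.val ≠ 0 := by
        show (j.val + (m - i.val)) % m ≠ 0
        rcases Nat.lt_or_ge i.val j.val with hlt | hge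
        · rw [show j.val + (m - i.val) = (j.val - i.val) + m by omega, Nat.add_mod_right,
            Nat.mod_eq_of_lt (by omega)]
          omega
        · rw [Nat.mod_eq_of_lt (by omega)]; omega
      have h0 := hsq0 jj hjj
      have h3 : (x ^ E (m - i.val) * z jj ^ E (m - i.val)) ^ 2 = 1 := by
        simp only [E]
        split_ifs
        · rw [show x ^ 2 = x⁻¹ by rw [← mul_eq_one_iff_eq_inv, ← pow_succ]; exact hx3,
            show z jj ^ 2 = (z jj)⁻¹ by rw [← mul_eq_one_iff_eq_inv, ← pow_succ]; exact hz3' jj,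
            ← mul_inv_rev, inv_pow, inv_eq_one]
          exact hswap2 _ _ h0
        · rw [pow_one, pow_one]; exact h0
      rw [← h1, ← h2, show a ^ (m - i.val) * z i * (a ^ (m - i.val))⁻¹ *
        (a ^ (m - i.val) * z j * (a ^ (m - i.val))⁻¹) =
        a ^ (m - i.val) * (z i * z j) * (a ^ (m - i.val))⁻¹ by group, conj_pow, conj_eq_one_iff] at h3
      exact h3)
  have hΦz : ∀ i, Φ (ζ i) = z i := fun i => hΦ _ (hfi i).symm (hti i).symm
  have hconj : ∀ y, a * Φ y * a⁻¹ = Φ (cj (smallD m sw) y) := by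
    intro y
    refine DFunLike.congr_fun (f := (MulAut.conj a).toMonoidHom.comp Φ) (g := Φ.comp (cj (smallD m sw))) ?_ y
    refine hom_ext_cyc hft fun y h1 h2 => ?_
    rcases y with (_ | _) | i
    · exact absurd rfl h1
    · exact absurd rfl h2
    show a * Φ (ζ i) * a⁻¹ = Φ (cj (smallD m sw) (ζ i))
    have h := hrot 1 i
    rw [pow_one] at h
    rw [h, map_pow, hΦz, hΦz]
    have h' := hkey 1 i
    rwa [pow_one] at h'
  have hq : a ^ T.q = Φ T.dq := by
    have := hf' (A ^ T.q * (FreeGroup.lift S Wq)⁻¹) (by simp [R])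
    rw [map_mul, map_inv, map_pow, lift_lift, hS', hA, mul_inv_eq_one] at this
    rw [this, ← hWq, lift_comp]
    exact congrArg (fun g => FreeGroup.lift g Wq) (funext hΦz).symm
  obtain ⟨ψ, hψ1, hψ2⟩ := T.univ G Φ a hconj hq
  refine ⟨ψ, fun i => ?_⟩
  fin_cases i
  · exact hψ2
  · show ψ (T.ι x0) = x
    rw [hψ1]
    exact (hΦz ⟨0, hm⟩).trans hz0

/-- At most `m / 2 + 3` relations. -/
theorem hasPresN_small (hm : 1 ≤ m) (sw : Bool) (hsw : sw = true → Even m)
    (T : Tgt (Bool ⊕ Fin m) (smallD m sw)) : HasPresN T.B 2 (m / 2 + 3) := by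
  obtain ⟨R, f, hR, -, hP⟩ := isPres_small hm sw hsw T
  exact ⟨_, f, by simp; omega, hP⟩

end CfsgLib.AltPres
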