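import Cfsg.Agent.AltPres.Small
import Cfsg.Agent.AltPres.Bertrand2

/-!
Two generators and six relations for every alternating and symmetric group.
-/

set_option autoImplicit false
set_option linter.style.haveILetI false

namespace CfsgLib.AltPres

open Equiv Equiv.Perm CfsgLib.BPres

theorem hasPresN_alt_of_tgt {n k r : ℕ} {α : Type} [Fintype α] [DecidableEq α] (hc : Fintype.card α = n)
    {d : Perm α} (hd : Perm.sign d = 1) (h : HasPresN (tgtAlt d hd).B k r) :
    HasPresN (alternatingGroup (Fin n)) k r :=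
  HasPresN.congr (A := alternatingGroup α) h (Equiv.altCongrHom (Fintype.equivFinOfCardEq hc))

theorem hasPresN_sym_of_tgt {n k r : ℕ} {α : Type} [Fintype α] [DecidableEq α] (hc : Fintype.card α = n)
    {d : Perm α} (hd : Perm.sign d = -1) (h : HasPresN (tgtSym d hd).B k r) :
    HasPresN (Perm (Fin n)) k r :=
  HasPresN.congr (A := Perm α) h (Equiv.permCongrHom (Fintype.equivFinOfCardEq hc))

theorem card_gam (p e : ℕ) : Fintype.card (Gam p e) = p + e + 2 := by
  simp [Fintype.card_sum, add_comm]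

theorem alt_main {p e l : ℕ} [Fact p.Prime] (hp : p ≠ 2) (hl : l + 1 ≤ p) (hl1 : 1 ≤ l) (he : e < l)
    (h3 : ¬ 3 ∣ l + e) (hodd : Odd (l + e)) : HasPresN (alternatingGroup (Fin (p + e + 2))) 2 6 := by
  obtain ⟨k, hk⟩ := hodd
  have hd : Perm.sign (dlt hl : Perm (Gam p e)) = 1 := by
    rw [dlt_sign hl (by omega), show l + e - 1 = 2 * k by omega, pow_mul]
    simp
  exact hasPresN_alt_of_tgt (card_gam p e) hd (hasPresN_main hp hl hl1 he h3 _)

theorem sym_main {p e l : ℕ} [Fact p.Prime] (hp : p ≠ 2) (hl : l + 1 ≤ p) (hl1 : 1 ≤ l) (he : e < l)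
    (h3 : ¬ 3 ∣ l + e) (heven : Even (l + e)) : HasPresN (Perm (Fin (p + e + 2))) 2 6 := by
  obtain ⟨k, hk⟩ := heven
  have hd : Perm.sign (dlt hl : Perm (Gam p e)) = -1 := by
    rw [dlt_sign hl (by omega), show l + e - 1 = 2 * (k - 1) + 1 by omega, pow_succ, pow_mul]
    simp
  exact hasPresN_sym_of_tgt (card_gam p e) hd (hasPresN_main hp hl hl1 he h3 _)

theorem split_large {n : ℕ} (hn : 7 ≤ n) :
    ∃ p e : ℕ, p.Prime ∧ n = p + e + 2 ∧ e + 4 ≤ p := by
  obtain ⟨p, hp, h1, h2⟩ := exists_prime_sharp ((n + 1) / 2) (by omega)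
  have hodd : Odd p := hp.odd_of_ne_two (by omega)
  obtain ⟨k, hk⟩ := hodd
  exact ⟨p, n - 2 - p, hp, by omega, by omega⟩

theorem hasPresN_alt_two {n : ℕ} (hn : 4 ≤ n) : HasPresN (alternatingGroup (Fin n)) 2 6 := by
  have small : ∀ m, m = 2 ∨ m = 4 → HasPresN (alternatingGroup (Fin (m + 2))) 2 6 := by
    intro m hm
    have hd : Perm.sign (smallD m true) = 1 := by
      rw [smallD_sign]; rcases hm with rfl | rfl <;> decide
    have h := hasPresN_small (show 1 ≤ m by omega) true
      (fun _ => by rcases hm with rfl | rfl <;> decide) (tgtAlt _ hd)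
    exact (hasPresN_alt_of_tgt (by simp [Fintype.card_sum, add_comm]) hd h).mono (by omega)
  rcases (show n = 4 ∨ n = 5 ∨ n = 6 ∨ 7 ≤ n by omega) with rfl | rfl | rfl | h7
  · exact small 2 (Or.inl rfl)
  · haveI : Fact (Nat.Prime 3) := ⟨Nat.prime_three⟩
    exact alt_main (p := 3) (e := 0) (l := 1) (by omega) (by omega) (by omega) (by omega) (by omega)
      (by decide)
  · exact small 4 (Or.inr rfl)
  obtain ⟨p, e, hp, rfl, hpe⟩ := split_large h7
  haveI : Fact p.Prime := ⟨hp⟩
  by_cases h3 : 3 ∣ 2 * e + 1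
  · exact alt_main (l := e + 3) (by omega) (by omega) (by omega) (by omega) (by omega)
      ⟨e + 1, by omega⟩
  · exact alt_main (l := e + 1) (by omega) (by omega) (by omega) (by omega) (by omega)
      ⟨e, by omega⟩

theorem hasPresN_sym_two {n : ℕ} (hn : 4 ≤ n) : HasPresN (Perm (Fin n)) 2 6 := by
  have small : ∀ m, m = 2 ∨ m = 4 → HasPresN (Perm (Fin (m + 2))) 2 6 := by
    intro m hm
    have hd : Perm.sign (smallD m false) = -1 := by
      rw [smallD_sign]; rcases hm with rfl | rfl <;> decide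
    have h := hasPresN_small (show 1 ≤ m by omega) false (fun h => absurd h (by decide)) (tgtSym _ hd)
    exact (hasPresN_sym_of_tgt (by simp [Fintype.card_sum, add_comm]) hd h).mono (by omega)
  rcases (show n = 4 ∨ n = 5 ∨ n = 6 ∨ 7 ≤ n by omega) with rfl | rfl | rfl | h7
  · exact small 2 (Or.inl rfl)
  · haveI : Fact (Nat.Prime 3) := ⟨Nat.prime_three⟩
    exact sym_main (p := 3) (e := 0) (l := 2) (by omega) (by omega) (by omega) (by omega) (by omega)
      (by decide)
  · exact small 4 (Or.inr rfl)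
  obtain ⟨p, e, hp, rfl, hpe⟩ := split_large h7
  haveI : Fact p.Prime := ⟨hp⟩
  have hp3 : ¬ 3 ∣ p := fun h => by
    rcases hp.eq_one_or_self_of_dvd 3 h with h' | h' <;> omega
  by_cases h3 : 3 ∣ 2 * e + 2
  · exact sym_main (l := e + 4) (by omega) (by omega) (by omega) (by omega) (by omega)
      ⟨e + 2, by omega⟩
  · exact sym_main (l := e + 2) (by omega) (by omega) (by omega) (by omega) (by omega)
      ⟨e + 1, by omega⟩

theorem hasPresN_of_subsingleton (A : Type) [Group A] [Subsingleton A] : HasPresN A 2 2 := by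
  refine ⟨[FreeGroup.of 0, FreeGroup.of 1], fun _ => 1, le_rfl,
    fun r _ => Subsingleton.elim _ _, Subsingleton.elim _ _, fun G _ f' hf' => ⟨1, fun i => ?_⟩⟩
  fin_cases i
  · have := hf' (FreeGroup.of 0) (by simp)
    simpa using this.symm
  · have := hf' (FreeGroup.of 1) (by simp)
    simpa using this.symm

theorem hasPresN_perm_two : HasPresN (Perm (Fin 2)) 2 2 := by
  have hd : Perm.sign (swap (0 : Fin 2) 1) = -1 := sign_swap (by decide)
  have hS : Subsingleton (alternatingGroup (Fin 2)) := ⟨by decide⟩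
  refine ⟨[FreeGroup.of 0 ^ 2, FreeGroup.of 1], ![swap (0 : Fin 2) 1, 1], le_rfl, fun r hr => ?_, ?_,
    fun G _ f' hf' => ?_⟩
  · simp only [List.mem_cons, List.not_mem_nil, or_false] at hr
    rcases hr with rfl | rfl
    · rw [map_pow, FreeGroup.lift_apply_of]
      simp [pow_two]
    · rw [FreeGroup.lift_apply_of]; rfl
  · refine closure_insert_odd hd (fun y => ?_) (Subgroup.subset_closure ⟨0, rfl⟩)
    rw [hS.elim y 1]
    exact Subgroup.one_mem _
  · have h1 := hf' (FreeGroup.of 0 ^ 2) (by simp)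
    have h2 := hf' (FreeGroup.of 1) (by simp)
    rw [map_pow, FreeGroup.lift_apply_of] at h1
    rw [FreeGroup.lift_apply_of] at h2
    obtain ⟨ψ, -, hψ⟩ := ext_odd hd (1 : alternatingGroup (Fin 2) →* G) (f' 0) (fun y => by simp) 1
      (by simp [pow_two]) (by simpa using h1)
    refine ⟨ψ, fun i => ?_⟩
    fin_cases i
    · exact hψ
    · show ψ 1 = f' 1
      rw [map_one, h2]

theorem hasPresN_perm_three : HasPresN (Perm (Fin 3)) 2 3 := by
  let d : Perm (Bool ⊕ Fin 1) := Equiv.sumCongr (swap false true) (Equiv.refl _)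
  have hd : Perm.sign d = -1 := by
    rw [Equiv.Perm.sign_sumCongr, sign_swap (by decide), Equiv.Perm.sign_refl]; rfl
  have hft : (Sum.inl false : Bool ⊕ Fin 1) ≠ Sum.inl true := by simp
  have hfi : (Sum.inl false : Bool ⊕ Fin 1) ≠ Sum.inr 0 := Sum.inl_ne_inr
  have hti : (Sum.inl true : Bool ⊕ Fin 1) ≠ Sum.inr 0 := Sum.inl_ne_inr
  let x0 : alternatingGroup (Bool ⊕ Fin 1) := cyc (Sum.inl false) (Sum.inl true) (Sum.inr 0)
  have hcx : cj d x0 = x0⁻¹ := by
    rw [cj_cyc _ hft hfi, show x0 = cyc (Sum.inl false) (Sum.inl true) (Sum.inr 0) from rfl,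
      cyc_inv hft hfi hti]
    rfl
  refine hasPresN_sym_of_tgt (α := Bool ⊕ Fin 1) (by simp) hd ?_
  let A : FreeGroup (Fin 2) := FreeGroup.of 0
  let X : FreeGroup (Fin 2) := FreeGroup.of 1
  refine ⟨[A ^ 2, X ^ 3, (A * X) ^ 2], ![(tgtSym d hd).dB, (tgtSym d hd).ι x0], le_rfl, fun r hr => ?_,
    ?_, fun G _ f' hf' => ?_⟩
  · simp only [List.mem_cons, List.not_mem_nil, or_false] at hr
    rcases hr with rfl | rfl | rfl
    · rw [map_pow, FreeGroup.lift_apply_of]
      exact (tgtSym d hd).dB_pow 2 (by decide)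
    · rw [map_pow, FreeGroup.lift_apply_of]
      show ((tgtSym d hd).ι x0) ^ 3 = 1
      rw [← map_pow, cyc_cube hft hfi hti, map_one]
    · rw [map_pow, map_mul, FreeGroup.lift_apply_of, FreeGroup.lift_apply_of]
      show ((tgtSym d hd).dB * (tgtSym d hd).ι x0) ^ 2 = 1
      have h2 : (tgtSym d hd).dB * (tgtSym d hd).dB = 1 := by
        rw [← pow_two]; exact (tgtSym d hd).dB_pow 2 (by decide)
      have h3 := (tgtSym d hd).conj x0
      rw [hcx, map_inv, inv_eq_of_mul_eq_one_right h2] at h3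
      rw [pow_two, ← mul_assoc, h3, inv_mul_cancel]
  · refine (tgtSym d hd).gen _ (fun y => ?_) (Subgroup.subset_closure ⟨0, rfl⟩)
    have hy : y ∈ Subgroup.closure {g | ∃ i, i ≠ Sum.inl false ∧ i ≠ Sum.inl true ∧
        g = cyc (Sum.inl false) (Sum.inl true) i} := by rw [closure_cyc hft]; trivial
    induction hy using Subgroup.closure_induction with
    | mem y hy =>
      obtain ⟨i, h1, h2, rfl⟩ := hy
      rcases i with (_ | _) | i
      · exact absurd rfl h1
      · exact absurd rfl h2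
      · obtain rfl : i = 0 := Subsingleton.elim _ _
        exact Subgroup.subset_closure ⟨1, rfl⟩
    | one => rw [map_one]; exact Subgroup.one_mem _
    | mul x y _ _ hx hy => rw [map_mul]; exact Subgroup.mul_mem _ hx hy
    | inv x _ hx => rw [map_inv]; exact Subgroup.inv_mem _ hx
  simp only [List.forall_mem_cons, List.not_mem_nil, false_imp_iff, implies_true, and_true, map_pow,
    map_mul, A, X, FreeGroup.lift_apply_of] at hf'
  obtain ⟨r1, r2, r3⟩ := hf'
  set a := f' 0
  set x := f' 1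
  obtain ⟨Φ, hΦ⟩ := carmichael hft (fun y : Bool ⊕ Fin 1 => y.elim (fun _ => 1) fun _ => x)
    (fun y h1 h2 => by rcases y with b' | i <;> [exact one_pow 3; exact r2])
    (fun y y' hy1 hy2 hy'1 hy'2 hne => by
      rcases y with (_ | _) | i
      · exact absurd rfl hy1
      · exact absurd rfl hy2
      rcases y' with (_ | _) | j
      · exact absurd rfl hy'1
      · exact absurd rfl hy'2
      exact absurd (congrArg Sum.inr (Subsingleton.elim i j)) hne)
  have hΦx : Φ x0 = x := hΦ _ hfi.symm hti.symm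
  have hax : a * x * a⁻¹ = x⁻¹ := by
    rw [pow_two] at r1
    rw [inv_eq_of_mul_eq_one_right r1]
    rw [pow_two, ← mul_assoc, mul_eq_one_iff_eq_inv] at r3
    exact r3
  have hconj : ∀ y, a * Φ y * a⁻¹ = Φ (cj d y) := by
    intro y
    refine DFunLike.congr_fun (f := (MulAut.conj a).toMonoidHom.comp Φ) (g := Φ.comp (cj d)) ?_ y
    refine hom_ext_cyc hft fun y h1 h2 => ?_
    rcases y with (_ | _) | i
    · exact absurd rfl h1
    · exact absurd rfl h2
    obtain rfl : i = 0 := Subsingleton.elim _ _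
    show a * Φ x0 * a⁻¹ = Φ (cj d x0)
    rw [hcx, map_inv, hΦx, hax]
  obtain ⟨ψ, hψ1, hψ2⟩ := (tgtSym d hd).univ G Φ a hconj (by
    rw [show (tgtSym d hd).dq = 1 from Subtype.ext (show d ^ 2 = 1 by decide), map_one]; exact r1)
  refine ⟨ψ, fun i => ?_⟩
  fin_cases i
  · exact hψ2
  · exact (hψ1 x0).trans hΦx

theorem hasPresN_perm (n : ℕ) : HasPresN (Perm (Fin n)) 2 6 := by
  rcases (show n ≤ 1 ∨ n = 2 ∨ n = 3 ∨ 4 ≤ n by omega) with h | rfl | rfl | h
  · haveI : Subsingleton (Fin n) := Fin.subsingleton_iff_le_one.2 h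
    exact (hasPresN_of_subsingleton _).mono (by omega)
  · exact hasPresN_perm_two.mono (by omega)
  · exact hasPresN_perm_three.mono (by omega)
  · exact hasPresN_sym_two h

theorem hasPresN_alternating (n : ℕ) : HasPresN (alternatingGroup (Fin n)) 2 6 := by
  rcases (show n ≤ 1 ∨ n = 2 ∨ n = 3 ∨ 4 ≤ n by omega) with h | rfl | rfl | h
  · haveI : Subsingleton (Fin n) := Fin.subsingleton_iff_le_one.2 h
    exact (hasPresN_of_subsingleton _).mono (by omega)
  · haveI : Subsingleton (alternatingGroup (Fin 2)) := ⟨by decide⟩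
    exact (hasPresN_of_subsingleton _).mono (by omega)
  · have hd : Perm.sign (smallD 1 false) = 1 := by rw [smallD_sign]; decide
    have h := hasPresN_small (le_refl 1) false (fun h => absurd h (by decide)) (tgtAlt _ hd)
    exact (hasPresN_alt_of_tgt (n := 3) (by simp) hd h).mono (by omega)
  · exact hasPresN_alt_two h

/-- Presentation on a prescribed generating pair. -/
theorem exists_pair_rels {A : Type} [Group A] {r : ℕ} (h : HasPresN A 2 r) {a b : A}
    (hab : Subgroup.closure ({a, b} : Set A) = ⊤) :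
    ∃ rels : Finset (FreeGroup (Fin 2)), rels.card ≤ r + 2 ∧
      ∃ e : PresentedGroup (↑rels : Set (FreeGroup (Fin 2))) ≃* A,
        e (PresentedGroup.of 0) = a ∧ e (PresentedGroup.of 1) = b := by
  classical
  obtain ⟨R, f, hR, hP⟩ := h
  have hgen : Subgroup.closure (Set.range ![a, b]) = ⊤ := by
    rw [← hab]; congr 1
    simp only [Matrix.range_cons, Matrix.range_empty, Set.union_empty, Set.singleton_union]
  choose W hW using fun i => exists_word hgen (f i)
  choose V hV using fun i => exists_word hP.gen (![a, b] i)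
  let R' : List (FreeGroup (Fin 2)) := R.map (FreeGroup.lift W) ++
    (List.finRange 2).map fun i => FreeGroup.of i * (FreeGroup.lift W (V i))⁻¹
  have hWf : (fun i => FreeGroup.lift ![a, b] (W i)) = f := funext hW
  have hrel : ∀ r ∈ R', FreeGroup.lift ![a, b] r = 1 := fun s hs => by
    rcases List.mem_append.1 hs with hs | hs
    · obtain ⟨t, ht, rfl⟩ := List.mem_map.1 hs
      rw [lift_lift, hWf]; exact hP.rel t ht
    · obtain ⟨i, -, rfl⟩ := List.mem_map.1 hs
      rw [map_mul, map_inv, lift_lift, hWf, hV, FreeGroup.lift_apply_of, mul_inv_cancel]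
  set S : Set (FreeGroup (Fin 2)) := (↑R'.toFinset : Set (FreeGroup (Fin 2)))
  let π : PresentedGroup S →* A :=
    PresentedGroup.toGroup (f := ![a, b]) fun r hr => hrel r (by simpa [S] using hr)
  have hof : ∀ r, FreeGroup.lift (PresentedGroup.of (rels := S)) r = PresentedGroup.mk S r := by
    intro r
    have : FreeGroup.lift (PresentedGroup.of (rels := S)) = PresentedGroup.mk S :=
      FreeGroup.ext_hom _ _ fun i => by rw [FreeGroup.lift_apply_of]; rfl
    rw [this]
  have hone : ∀ r ∈ R', FreeGroup.lift (PresentedGroup.of (rels := S)) r = 1 := fun r hr => by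
    rw [hof]; exact PresentedGroup.one_of_mem (by simpa [S] using hr)
  obtain ⟨φ, hφ⟩ := hP.univ (PresentedGroup S) (fun i => FreeGroup.lift PresentedGroup.of (W i))
    fun r hr => by
      rw [← lift_lift]
      exact hone _ (List.mem_append.2 (Or.inl (List.mem_map.2 ⟨r, hr, rfl⟩)))
  have hπ : ∀ i, π (PresentedGroup.of i) = ![a, b] i := fun i => PresentedGroup.toGroup.of _
  have hφab : ∀ i, φ (![a, b] i) = PresentedGroup.of i := fun i => by
    rw [← hV i, lift_comp, funext hφ, ← lift_lift]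
    have h1 := hone (FreeGroup.of i * (FreeGroup.lift W (V i))⁻¹)
      (List.mem_append.2 (Or.inr (List.mem_map.2 ⟨i, List.mem_finRange i, rfl⟩)))
    rw [map_mul, map_inv, mul_inv_eq_one, FreeGroup.lift_apply_of] at h1
    exact h1.symm
  have hl : φ.comp π = MonoidHom.id _ := PresentedGroup.ext fun i => by simp [hπ, hφab]
  have hr : π.comp φ = MonoidHom.id _ := hP.ext fun i => by
    simp only [MonoidHom.comp_apply, MonoidHom.id_apply]
    rw [hφ, lift_comp, funext hπ, hW]
  refine ⟨R'.toFinset, (List.toFinset_card_le R').trans (by simp [R']; omega),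
    { π with invFun := φ, left_inv := DFunLike.congr_fun hl, right_inv := DFunLike.congr_fun hr },
    hπ 0, hπ 1⟩

end CfsgLib.AltPres
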